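import Cfsg.Agent.S1270
import Cfsg.Agent.Lib.BenderMaximal
import Cfsg.Agent.S1265
import Mathlib
import Cfsg.Agent.Lib.KleinGen

section


/-!
# EH3, Clifford step: splitting a group with two components

`Split N₁ N₂`: two commuting perfect nontrivial subgroups with normal product.

* `two_components`: if `H` has two different components and `X` is a subgroup of exponent 2, then either
  `X` normalises both members of some `Split`, or some subgroup `A'` of index 2 in `X` normalises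
  `N₁`, the elements of `X - A'` interchange `N₁` and `N₂`, and a subgroup of `N₁` normalised by `N₁` and
  `A'` is `N₁` or centralises `N₁`.
* `exists_normalizing`, `four_le_card`: an abelian Sylow 2-subgroup `T` of a perfect group `N₁` of even order
  has order at least 4 and is not centralised by its normaliser.
-/

set_option autoImplicit false

namespace Cfsg.Agent.Omega.EH3.Clif.Comp

open Subgroup Cfsg Cfsg.Agent.Lib.ComponentSolvable
open Cfsg.Agent.S1270 (component_comm_of_normalizes component_comm_of_ne component_conj)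
open scoped commutatorElement

variable {H : Type*} [Group H]

/-- Two commuting perfect nontrivial subgroups with normal product. -/
structure Split (N₁ N₂ : Subgroup H) : Prop where
  comm : ∀ x ∈ N₁, ∀ y ∈ N₂, x * y = y * x
  norm : (N₁ ⊔ N₂).Normal
  perf₁ : ⁅N₁, N₁⁆ = N₁
  perf₂ : ⁅N₂, N₂⁆ = N₂
  ne₁ : N₁ ≠ ⊥
  ne₂ : N₂ ≠ ⊥

/-! ### Conjugation of subgroups -/

theorem conj_conj (K : Subgroup H) (a b : H) :
    (K.map (MulAut.conj a).toMonoidHom).map (MulAut.conj b).toMonoidHom =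
      K.map (MulAut.conj (b * a)).toMonoidHom := by
  rw [Subgroup.map_map]
  congr 1
  ext x
  simp [mul_assoc]

theorem conj_one (K : Subgroup H) : K.map (MulAut.conj (1 : H)).toMonoidHom = K := by
  ext x
  simp [Subgroup.mem_map]

theorem mem_normalizer_of_conj {K : Subgroup H} {a : H}
    (h : K.map (MulAut.conj a).toMonoidHom = K) : a ∈ normalizer (K : Set H) := by
  rw [mem_normalizer_iff]
  intro x
  constructor
  · intro hx
    rw [← h]
    exact ⟨x, hx, rfl⟩
  · intro hx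
    rw [← h] at hx
    obtain ⟨y, hy, hxy⟩ := hx
    have : y = x := (MulAut.conj a).injective hxy
    exact this ▸ hy

theorem conj_eq_of_mem {K : Subgroup H} {a : H} (h : a ∈ normalizer (K : Set H)) :
    K.map (MulAut.conj a).toMonoidHom = K := by
  ext x
  constructor
  · rintro ⟨y, hy, rfl⟩
    exact (mem_normalizer_iff.mp h y).mp hy
  · intro hx
    refine ⟨a⁻¹ * x * a, ?_, ?_⟩
    · rw [SetLike.mem_coe, mem_normalizer_iff.mp h]
      have e : a * (a⁻¹ * x * a) * a⁻¹ = x := by group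
      rw [e]
      exact hx
    · change a * (a⁻¹ * x * a) * a⁻¹ = x
      group

/-- Conjugation of a supremum of subgroups. -/
theorem conj_sSup_le {s t : Set (Subgroup H)} {a : H}
    (h : ∀ K ∈ s, K.map (MulAut.conj a).toMonoidHom ∈ t) :
    (sSup s).map (MulAut.conj a).toMonoidHom ≤ sSup t := by
  rw [map_le_iff_le_comap]
  refine sSup_le fun K hK => ?_
  rw [← map_le_iff_le_comap]
  exact le_sSup (h K hK)

theorem conj_sSup_eq {s t : Set (Subgroup H)} {a : H}
    (h : ∀ K ∈ s, K.map (MulAut.conj a).toMonoidHom ∈ t)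
    (h' : ∀ K ∈ t, K.map (MulAut.conj a⁻¹).toMonoidHom ∈ s) :
    (sSup s).map (MulAut.conj a).toMonoidHom = sSup t := by
  apply le_antisymm (conj_sSup_le h)
  have h1 := Subgroup.map_mono (f := (MulAut.conj a).toMonoidHom) (conj_sSup_le h')
  rwa [conj_conj, mul_inv_cancel, conj_one] at h1

/-! ### Products of components -/

theorem commutator_self {K : Subgroup H} (hK : IsComponent K) : ⁅K, K⁆ = K := by
  have h1 := Subgroup.map_subtype_commutator K
  have hp := hK.2.1
  rw [← h1]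
  have h2 : _root_.commutator K = ⊤ := hp.commutator_eq_top
  rw [h2, ← MonoidHom.range_eq_map, Subgroup.range_subtype]

theorem ne_bot {K : Subgroup H} (hK : IsComponent K) : K ≠ ⊥ := by
  have := quasisimple_nontrivial hK.2
  exact (Subgroup.nontrivial_iff_ne_bot K).mp this

theorem perf_sSup {s : Set (Subgroup H)} (hs : ∀ K ∈ s, IsComponent K) :
    ⁅sSup s, sSup s⁆ = sSup s := by
  apply le_antisymm
  · exact commutator_le_self _
  · refine sSup_le fun K hK => ?_
    rw [← commutator_self (hs K hK)]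
    exact commutator_mono (le_sSup hK) (le_sSup hK)

theorem comm_sSup {s t : Set (Subgroup H)} (hs : ∀ K ∈ s, IsComponent K)
    (ht : ∀ K ∈ t, IsComponent K) (hd : ∀ K ∈ s, K ∉ t) :
    ∀ x ∈ sSup s, ∀ y ∈ sSup t, x * y = y * x := by
  have h1 : sSup s ≤ centralizer ((sSup t : Subgroup H) : Set H) := by
    refine sSup_le fun K hK => ?_
    rw [le_centralizer_iff]
    refine sSup_le fun L hL => ?_
    have hne : L ≠ K := fun h => hd K hK (h ▸ hL)
    exact commutator_eq_bot_iff_le_centralizer.mp (component_comm_of_ne (ht L hL) (hs K hK) hne)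
  intro x hx y hy
  exact ((mem_centralizer_iff.mp (h1 hx)) y hy).symm

theorem sSup_ne_bot {s : Set (Subgroup H)} (hs : ∀ K ∈ s, IsComponent K) {K : Subgroup H}
    (hK : K ∈ s) : sSup s ≠ ⊥ := by
  intro h
  exact ne_bot (hs K hK) (le_bot_iff.mp ((le_sSup hK).trans h.le))

theorem normal_sSup {s t : Set (Subgroup H)} (h : ∀ K : Subgroup H, IsComponent K ↔ K ∈ s ∨ K ∈ t) :
    (sSup s ⊔ sSup t).Normal := by
  have e : sSup s ⊔ sSup t = sSup {K : Subgroup H | IsComponent K} := by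
    rw [← sSup_union]
    congr 1
    ext K
    exact (h K).symm
  rw [e]
  constructor
  intro x hx g
  have h1 : (sSup {K : Subgroup H | IsComponent K}).map (MulAut.conj g).toMonoidHom ≤
      sSup {K : Subgroup H | IsComponent K} :=
    conj_sSup_le fun K hK => component_conj hK g
  exact h1 ⟨x, hx, rfl⟩

theorem split_of {s t : Set (Subgroup H)} (h : ∀ K : Subgroup H, IsComponent K ↔ K ∈ s ∨ K ∈ t)
    (hd : ∀ K ∈ s, K ∉ t) {K L : Subgroup H} (hK : K ∈ s) (hL : L ∈ t) :
    Split (sSup s) (sSup t) where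
  comm := comm_sSup (fun K hK => (h K).mpr (Or.inl hK)) (fun K hK => (h K).mpr (Or.inr hK)) hd
  norm := normal_sSup h
  perf₁ := perf_sSup fun K hK => (h K).mpr (Or.inl hK)
  perf₂ := perf_sSup fun K hK => (h K).mpr (Or.inr hK)
  ne₁ := sSup_ne_bot (fun K hK => (h K).mpr (Or.inl hK)) hK
  ne₂ := sSup_ne_bot (fun K hK => (h K).mpr (Or.inr hK)) hL

/-! ### Subgroups of exponent 2 -/

theorem comm_of_sq {X : Subgroup H} (hX : ∀ x ∈ X, x * x = 1) {a b : H} (ha : a ∈ X) (hb : b ∈ X) :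
    a * b = b * a := by
  have h1 : a⁻¹ = a := inv_eq_of_mul_eq_one_left (hX a ha)
  have h2 : b⁻¹ = b := inv_eq_of_mul_eq_one_left (hX b hb)
  have h3 : (a * b)⁻¹ = a * b := inv_eq_of_mul_eq_one_left (hX _ (X.mul_mem ha hb))
  rw [mul_inv_rev, h1, h2] at h3
  exact h3.symm

/-- A proper subgroup of a finite group of exponent 2 lies in a subgroup of index 2. -/
theorem exists_index_two [Finite H] {X B : Subgroup H} (hX : ∀ x ∈ X, x * x = 1) (hBX : B ≤ X)
    (hne : B ≠ X) : ∃ A ≤ X, B ≤ A ∧ A ≠ X ∧ ∀ x ∈ X, x ∉ A → ∀ y ∈ X, y ∉ A → y * x ∈ A := by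
  have hfin : (Set.univ : Set (Subgroup H)).Finite := Set.toFinite _
  obtain ⟨A, hBA, hA⟩ := Finite.exists_le_maximal (p := fun A : Subgroup H => A ≤ X ∧ A ≠ X)
    ⟨hBX, hne⟩
  refine ⟨A, hA.prop.1, hBA, hA.prop.2, ?_⟩
  intro x hx hxA
  let D : Subgroup H :=
    { carrier := {y | y ∈ X ∧ (y ∈ A ∨ y * x ∈ A)}
      one_mem' := ⟨X.one_mem, Or.inl A.one_mem⟩
      mul_mem' := by
        rintro a b ⟨ha, ha'⟩ ⟨hb, hb'⟩
        refine ⟨X.mul_mem ha hb, ?_⟩
        have hbx := comm_of_sq hX hb hx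
        rcases ha' with h1 | h1 <;> rcases hb' with h2 | h2
        · exact Or.inl (A.mul_mem h1 h2)
        · right
          rw [mul_assoc]
          exact A.mul_mem h1 h2
        · right
          have e : a * b * x = a * x * b := by rw [mul_assoc, hbx, ← mul_assoc]
          rw [e]
          exact A.mul_mem h1 h2
        · left
          have e : a * b = a * x * (b * x) := by
            rw [hbx]
            calc a * b = a * 1 * b := by rw [mul_one]
              _ = a * (x * x) * b := by rw [hX x hx]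
              _ = a * x * (x * b) := by group
          rw [e]
          exact A.mul_mem h1 h2
      inv_mem' := by
        rintro a ⟨ha, ha'⟩
        have h1 : a⁻¹ = a := inv_eq_of_mul_eq_one_left (hX a ha)
        change a⁻¹ ∈ X ∧ (a⁻¹ ∈ A ∨ a⁻¹ * x ∈ A)
        rw [h1]
        exact ⟨ha, ha'⟩ }
  have hAD : A ≤ D := fun a ha => ⟨hA.prop.1 ha, Or.inl ha⟩
  have hDX : D ≤ X := fun a ha => ha.1
  have hxD : x ∈ D := ⟨hx, Or.inr (by rw [hX x hx]; exact A.one_mem)⟩
  have hD : D = X := by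
    by_contra hcon
    exact hxA (hA.le_of_ge ⟨hDX, hcon⟩ hAD hxD)
  intro y hy hyA
  rw [← hD] at hy
  exact hy.2.resolve_left hyA

theorem relIndex_two {X A : Subgroup H} (hAX : A ≤ X) (hne : A ≠ X)
    (h : ∀ x ∈ X, x ∉ A → ∀ y ∈ X, y ∉ A → y * x ∈ A) : A.relIndex X = 2 := by
  obtain ⟨x, hx, hxA⟩ : ∃ x ∈ X, x ∉ A := by
    by_contra hcon
    push Not at hcon
    exact hne (le_antisymm hAX hcon)
  rw [relIndex, index_eq_two_iff]
  refine ⟨⟨x, hx⟩, fun b => ?_⟩
  rw [mem_subgroupOf, mem_subgroupOf]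
  by_cases hb : (b : H) ∈ A
  · right
    refine ⟨hb, fun hbx => hxA ?_⟩
    have h1 := A.mul_mem (A.inv_mem hb) hbx
    simpa using h1
  · left
    exact ⟨h x hx hxA b b.2 hb, hb⟩

/-! ### The theorem -/

theorem two_components [Finite H] (X : Subgroup H) (hX : ∀ x ∈ X, x * x = 1) {K K' : Subgroup H}
    (hK : IsComponent K) (hK' : IsComponent K') (hne : K ≠ K') :
    (∃ N₁ N₂ : Subgroup H, Split N₁ N₂ ∧ X ≤ normalizer (N₁ : Set H) ∧
        X ≤ normalizer (N₂ : Set H) ∧ K ≤ N₁) ∨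
      (∃ N₁ N₂ A' : Subgroup H, Split N₁ N₂ ∧ A' ≤ X ∧ A'.relIndex X = 2 ∧
        A' ≤ normalizer (N₁ : Set H) ∧
        (∀ x ∈ X, x ∉ A' → N₁.map (MulAut.conj x).toMonoidHom = N₂) ∧
        (∀ J ≤ N₁, N₁ ≤ normalizer (J : Set H) → A' ≤ normalizer (J : Set H) →
          J = N₁ ∨ J ≤ centralizer (N₁ : Set H)) ∧ K ≤ N₁) := by
  by_cases htr : ∀ L : Subgroup H, IsComponent L → ∃ x ∈ X, K.map (MulAut.conj x).toMonoidHom = L
  · -- transitive case
    right
    obtain ⟨x₀, hx₀, hx₀K⟩ := htr K' hK'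
    have hx₀n : x₀ ∉ normalizer (K : Set H) := fun h => hne (hx₀K ▸ (conj_eq_of_mem h).symm)
    obtain ⟨A, hAX, hBA, hAne, hA2⟩ := exists_index_two hX (B := X ⊓ normalizer (K : Set H))
      inf_le_left (fun h => hx₀n (h.ge hx₀).2)
    obtain ⟨x, hx, hxA⟩ : ∃ x ∈ X, x ∉ A := by
      by_contra hcon
      push Not at hcon
      exact hAne (le_antisymm hAX hcon)
    let s : Set (Subgroup H) := {L | ∃ a ∈ A, K.map (MulAut.conj a).toMonoidHom = L}
    let t : Set (Subgroup H) := {L | ∃ a ∈ A, K.map (MulAut.conj (a * x)).toMonoidHom = L}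
    have hd : ∀ L ∈ s, L ∉ t := by
      rintro L ⟨a, ha, rfl⟩ ⟨b, hb, hab⟩
      have h1 : K.map (MulAut.conj (a⁻¹ * (b * x))).toMonoidHom = K := by
        rw [← conj_conj, hab, conj_conj, inv_mul_cancel, conj_one]
      have h2 : a⁻¹ * (b * x) ∈ A :=
        hBA ⟨X.mul_mem (X.inv_mem (hAX ha)) (X.mul_mem (hAX hb) hx), mem_normalizer_of_conj h1⟩
      apply hxA
      have h3 := A.mul_mem (A.inv_mem hb) (A.mul_mem ha h2)
      simpa [mul_assoc] using h3
    have hcov : ∀ L : Subgroup H, IsComponent L ↔ L ∈ s ∨ L ∈ t := by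
      intro L
      constructor
      · intro hL
        obtain ⟨y, hy, hyL⟩ := htr L hL
        by_cases hyA : y ∈ A
        · exact Or.inl ⟨y, hyA, hyL⟩
        · refine Or.inr ⟨y * x, hA2 x hx hxA y hy hyA, ?_⟩
          rw [mul_assoc, hX x hx, mul_one]
          exact hyL
      · rintro (⟨a, -, rfl⟩ | ⟨a, -, rfl⟩) <;> exact component_conj hK _
    have hKs : K ∈ s := ⟨1, A.one_mem, conj_one K⟩
    have hKt : K.map (MulAut.conj x).toMonoidHom ∈ t := ⟨1, A.one_mem, by rw [one_mul]⟩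
    have hAs : ∀ a ∈ A, ∀ L ∈ s, L.map (MulAut.conj a).toMonoidHom ∈ s := by
      rintro a ha L ⟨b, hb, rfl⟩
      exact ⟨a * b, A.mul_mem ha hb, (conj_conj _ _ _).symm⟩
    refine ⟨sSup s, sSup t, A, split_of hcov hd hKs hKt, hAX, relIndex_two hAX hAne hA2, ?_, ?_, ?_,
      le_sSup hKs⟩
    · intro a ha
      exact mem_normalizer_of_conj (conj_sSup_eq (hAs a ha) (hAs a⁻¹ (A.inv_mem ha)))
    · intro y hy hyA
      have hyx : y * x ∈ A := hA2 x hx hxA y hy hyA
      have hyi : y⁻¹ = y := inv_eq_of_mul_eq_one_left (hX y hy)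
      apply conj_sSup_eq
      · rintro L ⟨a, ha, rfl⟩
        refine ⟨a * (y * x), A.mul_mem ha hyx, ?_⟩
        rw [conj_conj]
        congr 3
        have h1 := comm_of_sq hX hy (hAX ha)
        rw [mul_assoc, mul_assoc, hX x hx, mul_one, h1]
      · rw [hyi]
        rintro L ⟨a, ha, rfl⟩
        refine ⟨a * (y * x), A.mul_mem ha hyx, ?_⟩
        rw [conj_conj]
        congr 3
        have h1 := comm_of_sq hX hy (hAX ha)
        rw [← mul_assoc, ← mul_assoc, h1]
    · intro J hJ hNJ hAJ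
      by_cases hKJ : K ≤ J
      · left
        apply le_antisymm hJ
        refine sSup_le ?_
        rintro L ⟨a, ha, rfl⟩
        have h1 := Subgroup.map_mono (f := (MulAut.conj a).toMonoidHom) hKJ
        rwa [conj_eq_of_mem (hAJ ha)] at h1
      · right
        rw [le_centralizer_iff]
        refine sSup_le ?_
        rintro L ⟨a, ha, rfl⟩
        have hLN : K.map (MulAut.conj a).toMonoidHom ≤ sSup s := le_sSup ⟨a, ha, rfl⟩
        have hLJ : ¬ K.map (MulAut.conj a).toMonoidHom ≤ J := by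
          intro hcon
          apply hKJ
          have h1 := Subgroup.map_mono (f := (MulAut.conj a⁻¹).toMonoidHom) hcon
          rwa [conj_eq_of_mem (hAJ (A.inv_mem ha)), conj_conj, inv_mul_cancel, conj_one] at h1
        exact commutator_eq_bot_iff_le_centralizer.mp
          (component_comm_of_normalizes (component_conj hK a) (hLN.trans hNJ) hLJ)
  · -- intransitive case
    left
    push Not at htr
    obtain ⟨L, hL, hLn⟩ := htr
    let s : Set (Subgroup H) := {L | ∃ a ∈ X, K.map (MulAut.conj a).toMonoidHom = L}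
    let t : Set (Subgroup H) := {L | IsComponent L ∧ L ∉ s}
    have hcov : ∀ L : Subgroup H, IsComponent L ↔ L ∈ s ∨ L ∈ t := by
      intro L
      constructor
      · intro hL
        by_cases h : L ∈ s
        · exact Or.inl h
        · exact Or.inr ⟨hL, h⟩
      · rintro (⟨a, -, rfl⟩ | h)
        · exact component_conj hK _
        · exact h.1
    have hXs : ∀ a ∈ X, ∀ L ∈ s, L.map (MulAut.conj a).toMonoidHom ∈ s := by
      rintro a ha L ⟨b, hb, rfl⟩
      exact ⟨a * b, X.mul_mem ha hb, (conj_conj _ _ _).symm⟩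
    have hXt : ∀ a ∈ X, ∀ L ∈ t, L.map (MulAut.conj a).toMonoidHom ∈ t := by
      rintro a ha L ⟨hL, hLs⟩
      refine ⟨component_conj hL a, fun hcon => hLs ?_⟩
      have h1 := hXs a⁻¹ (X.inv_mem ha) _ hcon
      rwa [conj_conj, inv_mul_cancel, conj_one] at h1
    refine ⟨sSup s, sSup t, split_of hcov (fun L hL h => h.2 hL) (K := K) (L := L)
      ⟨1, X.one_mem, conj_one K⟩ ⟨hL, fun ⟨a, ha, h⟩ => hLn a ha h⟩, ?_, ?_,
      le_sSup ⟨1, X.one_mem, conj_one K⟩⟩
    · intro a ha
      exact mem_normalizer_of_conj (conj_sSup_eq (hXs a ha) (hXs a⁻¹ (X.inv_mem ha)))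
    · intro a ha
      exact mem_normalizer_of_conj (conj_sSup_eq (hXt a ha) (hXt a⁻¹ (X.inv_mem ha)))

/-! ### Burnside transfer in a perfect group -/

/-- A perfect group has no nontrivial Sylow subgroup centralised by its normaliser. -/
theorem eq_bot_of_burnside {N : Type*} [Group N] [Finite N] {p : ℕ} [Fact p.Prime]
    (hN : _root_.commutator N = ⊤) (P : Sylow p N)
    (hP : normalizer ((P : Subgroup N) : Set N) ≤ centralizer ((P : Subgroup N) : Set N)) :
    (P : Subgroup N) = ⊥ := by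
  have hcomm : ∀ a b : P, a * b = b * a := fun a b =>
    Subtype.ext (hP (Subgroup.le_normalizer b.2) a a.2)
  have hker : (MonoidHom.transferSylow P hP).ker = ⊤ := by
    rw [eq_top_iff, ← hN]
    let _ : CommGroup P := { (inferInstance : Group P) with mul_comm := hcomm }
    exact Abelianization.commutator_subset_ker (G := N) (A := P) (MonoidHom.transferSylow P hP)
  have h1 := MonoidHom.ker_transferSylow_isComplement' P hP
  rw [hker] at h1
  exact Subgroup.isComplement'_top_left.mp h1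

variable [Finite H]

/-- An abelian Sylow 2-subgroup of a perfect group of even order is not centralised by its normaliser. -/
theorem exists_normalizing {N T : Subgroup H} (hN : ⁅N, N⁆ = N) (hTN : T ≤ N) (hT2 : IsPGroup 2 T)
    (hTi : Odd (T.relIndex N)) (hne : T ≠ ⊥) :
    ∃ n ∈ N, n ∈ normalizer (T : Set H) ∧ n ∉ centralizer (T : Set H) := by
  have : Fact (Nat.Prime 2) := ⟨Nat.prime_two⟩
  by_contra hcon
  push Not at hcon
  have hTp : IsPGroup 2 (T.subgroupOf N) := hT2.comap_subtype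
  have hnd : ¬ 2 ∣ (T.subgroupOf N).index := by
    intro h
    have h1 : Odd ((T.subgroupOf N).index) := hTi
    exact (Nat.not_odd_iff_even.mpr (even_iff_two_dvd.mpr h)) h1
  let P : Sylow 2 N := IsPGroup.toSylow hTp hnd
  have hPT : (P : Subgroup N) = T.subgroupOf N := rfl
  have hNc : _root_.commutator N = ⊤ := by
    have h1 := Subgroup.map_subtype_commutator N
    rw [hN] at h1
    apply Subgroup.map_injective N.subtype_injective
    rw [h1, ← MonoidHom.range_eq_map, Subgroup.range_subtype]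
  have hP : normalizer ((P : Subgroup N) : Set N) ≤ centralizer ((P : Subgroup N) : Set N) := by
    intro n hn
    have h1 : (n : H) ∈ normalizer (T : Set H) := by
      rw [mem_normalizer_iff] at hn ⊢
      intro y
      constructor
      · intro hy
        have := (hn ⟨y, hTN hy⟩).mp (by rw [hPT, mem_subgroupOf]; exact hy)
        rw [hPT, mem_subgroupOf] at this
        exact this
      · intro hy
        have hyN : y ∈ N := by
          have h2 := N.mul_mem (N.mul_mem (N.inv_mem n.2) (hTN hy)) n.2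
          have e : (n : H)⁻¹ * (n * y * (n : H)⁻¹) * n = y := by group
          rwa [e] at h2
        have := (hn ⟨y, hyN⟩).mpr (by rw [hPT, mem_subgroupOf]; exact hy)
        rw [hPT, mem_subgroupOf] at this
        exact this
    have h2 := hcon n n.2 h1
    rw [mem_centralizer_iff] at h2 ⊢
    intro y hy
    have hy' : (y : H) ∈ T := by
      rw [hPT] at hy
      exact mem_subgroupOf.mp hy
    exact Subtype.ext (h2 y hy')
  have h3 := eq_bot_of_burnside hNc P hP
  rw [hPT, subgroupOf_eq_bot] at h3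
  exact hne (le_bot_iff.mp (by rw [← h3.eq_bot]; exact le_inf le_rfl hTN))

/-- An abelian Sylow 2-subgroup of a perfect group of even order has order at least 4. -/
theorem four_le_card {N T : Subgroup H} (hN : ⁅N, N⁆ = N) (hTN : T ≤ N) (hT2 : IsPGroup 2 T)
    (hTi : Odd (T.relIndex N)) (hev : Even (Nat.card N)) : 4 ≤ Nat.card T ∧ T ≠ ⊥ := by
  have : Fact (Nat.Prime 2) := ⟨Nat.prime_two⟩
  have hc : T.relIndex N * Nat.card T = Nat.card N := by
    rw [mul_comm, relIndex, ← Nat.card_congr (subgroupOfEquivOfLe hTN).toEquiv]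
    exact Subgroup.card_mul_index _
  have hTev : Even (Nat.card T) := by
    rw [← hc] at hev
    rcases Nat.even_mul.mp hev with h | h
    · exact absurd hTi (Nat.not_odd_iff_even.mpr h)
    · exact h
  have hne : T ≠ ⊥ := by
    rintro rfl
    rw [Subgroup.card_bot] at hTev
    exact absurd hTev (by decide)
  obtain ⟨k, hk⟩ := (IsPGroup.iff_card).mp hT2
  refine ⟨?_, hne⟩
  rcases Nat.lt_or_ge k 2 with hk2 | hk2
  · exfalso
    have hT : Nat.card T = 2 := by
      interval_cases k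
      · rw [hk] at hTev
        exact absurd hTev (by decide)
      · exact hk
    obtain ⟨n, hn, hnT, hnc⟩ := exists_normalizing hN hTN hT2 hTi hne
    apply hnc
    rw [mem_centralizer_iff]
    intro y hy
    by_cases hy1 : y = 1
    · rw [hy1, mul_one, one_mul]
    have h1 : n * y * n⁻¹ ∈ T := (mem_normalizer_iff.mp hnT y).mp hy
    have h2 : n * y * n⁻¹ ≠ 1 := by
      intro h
      apply hy1
      have : n * y = n := by
        rw [mul_inv_eq_one] at h
        exact h
      exact mul_eq_left.mp this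
    have hex : ∀ u v : T, u ≠ 1 → v ≠ 1 → u = v := by
      obtain ⟨y, -, hy⟩ := (Nat.card_eq_two_iff' (1 : T)).mp hT
      intro u v hu hv
      rw [hy u hu, hy v hv]
    have h3 := hex ⟨_, h1⟩ ⟨y, hy⟩ (fun h => h2 (congrArg Subtype.val h))
      (fun h => hy1 (congrArg Subtype.val h))
    have h4 : n * y * n⁻¹ = y := congrArg Subtype.val h3
    exact (mul_inv_eq_iff_eq_mul.mp h4).symm
  · rw [hk]
    calc 4 = 2 ^ 2 := by norm_num
      _ ≤ 2 ^ k := Nat.pow_le_pow_right (by norm_num) hk2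

end Cfsg.Agent.Omega.EH3.Clif.Comp

end

section


/-!
# N1, THEOREM COMP: the components of `Y` (project OMEGA)

Text: helper390 (bb OMEGA #17539, (1)), part (III) of the split #18039. Typed by helper570.

`MinP T Mx` : `T` a Sylow 2-subgroup of `Y`, `Mx` the unique maximal subgroup over `T`, `O₂(Y) = 1`.

* `MinP.fr` : (FR) a normal subgroup `X` of even order has `X ⊔ T = ⊤`.
* `MinP.exists_comp` : a 2-subgroup `U ≠ 1` centralising `O(Y)` moves an element of a component of even order.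
* `Sit T Mx K` : `MinP` and `K` is a component of even order.
* `Sit.layer_sup` : `layer Y ⊔ T = ⊤`;
* `Sit.trans` : every component is `K^t`, `t ∈ T`;
* `Sit.cent_odd` : `C_Y(E(Y))` has odd order;
* `Sit.cent_inf` : a normal subgroup of even order contains `E(Y)`.
-/

set_option autoImplicit false
set_option linter.unusedSectionVars false

namespace Cfsg.Agent.Omega.NO1.Comp.Grp

open Subgroup Cfsg Cfsg.Agent.Lib.ComponentSolvable
open Cfsg.Agent.Omega.EH3.Clif.Comp
open Cfsg.Agent.S1270 (component_comm_of_normalizes component_comm_of_ne component_conj component_le_or_comm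
  subnormal_le_pPrimeCore)
open scoped commutatorElement

variable {Y : Type*} [Group Y] {T : Sylow 2 Y} {Mx : Subgroup Y}

/-- `T` a Sylow 2-subgroup of `Y`, `Mx` the unique maximal subgroup over `T`, `O₂(Y) = 1`. -/
structure MinP (T : Sylow 2 Y) (Mx : Subgroup Y) : Prop where
  core : ∀ N : Subgroup Y, N.Normal → IsPGroup 2 N → N = ⊥
  TM : (T : Subgroup Y) ≤ Mx
  Mne : Mx ≠ ⊤
  max : ∀ K : Subgroup Y, (T : Subgroup Y) ≤ K → K ≠ ⊤ → K ≤ Mx

/-- Frattini -/
theorem frattini_inf [Finite Y] (P : Sylow 2 Y) (N : Subgroup Y) [N.Normal] :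
    normalizer (((P : Subgroup Y) ⊓ N : Subgroup Y) : Set Y) ⊔ N = ⊤ := by
  have : Fact (Nat.Prime 2) := ⟨Nat.prime_two⟩
  have hd : ¬ 2 ∣ (P : Subgroup Y).relIndex N := by
    have h1 := relIndex_mul_relIndex ((P : Subgroup Y) ⊓ N) N ((P : Subgroup Y) ⊔ N) inf_le_right le_sup_right
    have h2 := relIndex_mul_relIndex ((P : Subgroup Y) ⊓ N) P ((P : Subgroup Y) ⊔ N) inf_le_left le_sup_left
    rw [inf_relIndex_left, ← relIndex_sup_right (H := (P : Subgroup Y)) (K := N), ← h1,
      inf_relIndex_right, mul_comm] at h2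
    have h3 : (N.relIndex ((P : Subgroup Y) ⊔ N)) ≠ 0 := index_ne_zero_of_finite
    have h4 := Nat.eq_of_mul_eq_mul_right (Nat.pos_of_ne_zero h3) h2
    rw [← h4]
    intro h5
    exact P.not_dvd_index (h5.trans (relIndex_dvd_index_of_le le_sup_left))
  let Q : Sylow 2 N := (P.2.comap_subtype (K := N)).toSylow hd
  have hQ : (Q : Subgroup N) = (P : Subgroup Y).subgroupOf N := rfl
  have h1 := Q.normalizer_sup_eq_top
  rw [hQ, subgroupOf_map_subtype] at h1
  exact h1

theorem conj_isPGroup {P : Sylow 2 Y} {N : Subgroup Y} (h : (P : Subgroup Y) ⊓ N = ⊥) (hN : N.Normal) [Finite Y] :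
    ¬ 2 ∣ Nat.card N := by
  have : Fact (Nat.Prime 2) := ⟨Nat.prime_two⟩
  intro h2
  obtain ⟨x, hx⟩ := exists_prime_orderOf_dvd_card' 2 h2
  have h3 : IsPGroup 2 (zpowers (x : Y)) := by
    have h4 : IsPGroup 2 (zpowers x) := IsPGroup.of_card (n := 1) (by rw [Nat.card_zpowers, hx, pow_one])
    have h5 := h4.map N.subtype
    rwa [MonoidHom.map_zpowers] at h5
  obtain ⟨Q, hQ⟩ := h3.exists_le_sylow
  obtain ⟨g, hg⟩ := MulAction.exists_smul_eq Y Q P
  have h6 : (x : Y) ∈ Q := hQ (mem_zpowers _)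
  have h7 : g * x * g⁻¹ ∈ P := by
    rw [← hg]
    exact Subgroup.smul_mem_pointwise_smul (x : Y) (MulAut.conj g) (Q : Subgroup Y) h6
  have h8 : g * x * g⁻¹ ∈ (P : Subgroup Y) ⊓ N := ⟨h7, hN.conj_mem _ x.2 g⟩
  rw [h, mem_bot, mul_inv_eq_one, mul_eq_left] at h8
  have h9 : x = 1 := Subtype.ext h8
  rw [h9, orderOf_one] at hx
  exact absurd hx (by norm_num)

/-- (FR) -/
theorem MinP.fr [Finite Y] (h : MinP T Mx) {X : Subgroup Y} (hX : X.Normal) (h2 : 2 ∣ Nat.card X) :
    X ⊔ (T : Subgroup Y) = ⊤ := by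
  by_contra hcon
  have h1 : X ⊔ (T : Subgroup Y) ≤ Mx := h.max _ le_sup_right hcon
  have h3 : (T : Subgroup Y) ≤ normalizer (((T : Subgroup Y) ⊓ X : Subgroup Y) : Set Y) := by
    intro t ht
    rw [mem_normalizer_iff]
    intro y
    constructor
    · rintro ⟨h4, h5⟩
      exact ⟨(T : Subgroup Y).mul_mem ((T : Subgroup Y).mul_mem ht h4) ((T : Subgroup Y).inv_mem ht),
        hX.conj_mem _ h5 t⟩
    · rintro ⟨h4, h5⟩
      have e : y = t⁻¹ * (t * y * t⁻¹) * t⁻¹⁻¹ := by group
      rw [e]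
      exact ⟨(T : Subgroup Y).mul_mem ((T : Subgroup Y).mul_mem ((T : Subgroup Y).inv_mem ht) h4)
        ((T : Subgroup Y).inv_mem ((T : Subgroup Y).inv_mem ht)), hX.conj_mem _ h5 t⁻¹⟩
  have h4 : normalizer (((T : Subgroup Y) ⊓ X : Subgroup Y) : Set Y) ≠ ⊤ := by
    intro h5
    have h6 : ((T : Subgroup Y) ⊓ X).Normal := normalizer_eq_top_iff.mp h5
    have h7 := h.core _ h6 (T.2.to_le inf_le_left)
    exact conj_isPGroup h7 hX h2
  have h5 := h.max _ h3 h4
  apply h.Mne
  rw [eq_top_iff, ← frattini_inf T X]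
  exact sup_le h5 (le_sup_left.trans h1)

/-- the odd part -/
theorem MinP.fitting_le [Finite Y] (h : MinP T Mx) : fittingSubgroup Y ≤ pPrimeCore 2 Y := by
  have : Fact (Nat.Prime 2) := ⟨Nat.prime_two⟩
  have h1 : pCore 2 Y = ⊥ := by
    exact h.core _ (Lib.Cores.pCore_normal 2) (Lib.Cores.pCore_isPGroup 2)
  apply le_sSup
  refine ⟨Lib.Cores.fittingSubgroup_normal, ?_⟩
  rw [Nat.coprime_comm, Nat.Prime.coprime_iff_not_dvd Nat.prime_two]
  intro h2
  obtain ⟨x, hx⟩ := exists_prime_orderOf_dvd_card' 2 h2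
  have h3 : IsPGroup 2 (zpowers (x : Y)) := by
    have h4 : IsPGroup 2 (zpowers x) := IsPGroup.of_card (n := 1) (by rw [Nat.card_zpowers, hx, pow_one])
    have h5 := h4.map (fittingSubgroup Y).subtype
    rwa [MonoidHom.map_zpowers] at h5
  have h4 := Lib.BenderMaximal.le_pCore_of_le_fittingSubgroup (p := 2) (K := zpowers (x : Y))
    h3 (zpowers_le.mpr x.2)
  rw [h1, le_bot_iff, zpowers_eq_bot] at h4
  have h9 : x = 1 := Subtype.ext h4
  rw [h9, orderOf_one] at hx
  exact absurd hx (by norm_num)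

/-- a 2-subgroup `≠ 1` centralising `O(Y)` moves an element of a component of even order -/
theorem MinP.exists_comp [Finite Y] (h : MinP T Mx) {U : Subgroup Y} (hU2 : IsPGroup 2 U) (hU1 : U ≠ ⊥)
    (hO : U ≤ centralizer (pPrimeCore 2 Y : Set Y)) :
    ∃ K : Subgroup Y, IsComponent K ∧ 2 ∣ Nat.card K ∧ ¬ U ≤ centralizer (K : Set Y) := by
  have : Fact (Nat.Prime 2) := ⟨Nat.prime_two⟩
  by_contra hcon
  push Not at hcon
  have h1 : U ≤ centralizer (generalizedFittingSubgroup Y : Set Y) := by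
    rw [le_centralizer_iff]
    refine sup_le (sSup_le ?_) ?_
    · intro K hK
      rw [le_centralizer_iff]
      by_cases h2 : 2 ∣ Nat.card K
      · exact hcon K hK h2
      · have h3 : K ≤ pPrimeCore 2 Y := by
          apply subnormal_le_pPrimeCore hK.1
          rw [Nat.coprime_comm, Nat.Prime.coprime_iff_not_dvd Nat.prime_two]
          exact h2
        exact hO.trans (centralizer_le h3)
    · rw [le_centralizer_iff]
      exact hO.trans (centralizer_le h.fitting_le)
  have h2 : centralizer (generalizedFittingSubgroup Y : Set Y) ≤ generalizedFittingSubgroup Y :=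
    Cfsg.Agent.Lib.GenFitting.centralizer_genFitting_le
  have hn : (centralizer (generalizedFittingSubgroup Y : Set Y)).Normal := by
    have : (generalizedFittingSubgroup Y).Normal := Lib.GenFitting.genFitting_normal
    infer_instance
  have h3 : centralizer (generalizedFittingSubgroup Y : Set Y) ≤ fittingSubgroup Y := by
    apply le_sSup
    refine ⟨hn, ?_⟩
    have hc : IsMulCommutative (centralizer (generalizedFittingSubgroup Y : Set Y)) := by
      constructor
      constructor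
      intro a b
      apply Subtype.ext
      exact (mem_centralizer_iff.mp b.2 a (h2 a.2))
    let _ : CommGroup (centralizer (generalizedFittingSubgroup Y : Set Y)) :=
      { (inferInstance : Group (centralizer (generalizedFittingSubgroup Y : Set Y))) with
        mul_comm := fun a b => hc.is_comm.comm a b }
    exact CommGroup.isNilpotent
  have h4 := Lib.BenderMaximal.le_pCore_of_le_fittingSubgroup (p := 2) (K := U) hU2 (h1.trans h3)
  have h5 : pCore 2 Y = ⊥ := h.core _ (Lib.Cores.pCore_normal 2) (Lib.Cores.pCore_isPGroup 2)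
  rw [h5, le_bot_iff] at h4
  exact hU1 h4

/-! ### one class of components -/

/-- a perfect subgroup lies in every normal subgroup `X` with `X ⊔ T = ⊤` -/
theorem le_of_perfect [Finite Y] {X L : Subgroup Y} (hX : X.Normal) (hXT : X ⊔ (T : Subgroup Y) = ⊤)
    (hL : ⁅L, L⁆ = L) : L ≤ X := by
  have : Fact (Nat.Prime 2) := ⟨Nat.prime_two⟩
  have h1 : (T : Subgroup Y).map (QuotientGroup.mk' X) = ⊤ := by
    have h2 : (X ⊔ (T : Subgroup Y)).map (QuotientGroup.mk' X) = ⊤ := by
      rw [hXT, ← MonoidHom.range_eq_map, MonoidHom.range_eq_top]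
      exact QuotientGroup.mk'_surjective X
    rw [Subgroup.map_sup, (map_eq_bot_iff X).mpr (by rw [QuotientGroup.ker_mk']), bot_sup_eq] at h2
    exact h2
  have h2 : IsPGroup 2 (Y ⧸ X) := by
    have h3 := T.2.map (QuotientGroup.mk' X)
    rw [h1] at h3
    exact h3.of_equiv Subgroup.topEquiv
  have hn : Group.IsNilpotent (Y ⧸ X) := h2.isNilpotent
  have hs : Group.IsSolvable (Y ⧸ X) := inferInstance
  obtain ⟨n, hn⟩ := hs.solvable
  have h3 : ∀ m, L.map (QuotientGroup.mk' X) ≤ derivedSeries (Y ⧸ X) m := by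
    intro m
    induction m with
    | zero => exact le_top
    | succ m ih =>
      rw [derivedSeries_succ, ← hL, map_commutator]
      exact commutator_mono ih ih
  have h4 := h3 n
  rw [hn, le_bot_iff, Subgroup.map_eq_bot_iff, QuotientGroup.ker_mk'] at h4
  exact h4

/-- the conjugates of `K` -/
def cj (K : Subgroup Y) : Set (Subgroup Y) := {L | ∃ g : Y, K.map (MulAut.conj g).toMonoidHom = L}

theorem cj_self (K : Subgroup Y) : K ∈ cj K := ⟨1, conj_one K⟩

theorem cj_comp {K : Subgroup Y} (hK : IsComponent K) : ∀ L ∈ cj K, IsComponent L := by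
  rintro L ⟨g, rfl⟩
  exact component_conj hK g

theorem cj_normal (K : Subgroup Y) : (sSup (cj K)).Normal := by
  constructor
  intro x hx g
  have h1 : (sSup (cj K)).map (MulAut.conj g).toMonoidHom ≤ sSup (cj K) := by
    apply conj_sSup_le
    rintro L ⟨a, rfl⟩
    exact ⟨g * a, (conj_conj _ _ _).symm⟩
  exact h1 ⟨x, hx, rfl⟩

/-- `MinP` with a component `K` of even order -/
structure Sit (T : Sylow 2 Y) (Mx K : Subgroup Y) : Prop extends MinP T Mx where
  comp : IsComponent K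
  even : 2 ∣ Nat.card K

/-- components normalise each other -/
theorem layer_le_normalizer {K : Subgroup Y} (hK : IsComponent K) : layer Y ≤ normalizer (K : Set Y) := by
  apply sSup_le
  intro L hL
  by_cases h : L = K
  · rw [h]
    exact le_normalizer
  · exact (commutator_eq_bot_iff_le_centralizer.mp (component_comm_of_ne hL hK h)).trans
      (centralizer_le_normalizer _)

theorem layer_normal : (layer Y).Normal := by
  constructor
  intro x hx g
  have h1 : (sSup {K : Subgroup Y | IsComponent K}).map (MulAut.conj g).toMonoidHom ≤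
      sSup {K : Subgroup Y | IsComponent K} :=
    conj_sSup_le fun K hK => component_conj hK g
  exact h1 ⟨x, hx, rfl⟩

theorem perf_layer : ⁅layer Y, layer Y⁆ = layer Y := perf_sSup fun _ hK => hK

namespace Sit

variable {K : Subgroup Y} [Finite Y] (h : Sit T Mx K)
include h

theorem cj_sup : sSup (cj K) ⊔ (T : Subgroup Y) = ⊤ :=
  h.fr (cj_normal K) (h.even.trans (card_dvd_of_le (le_sSup (cj_self K))))

/-- all components are conjugate -/
theorem mem_cj {L : Subgroup Y} (hL : IsComponent L) : L ∈ cj K := by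
  by_contra hcon
  have h1 : L ≤ sSup (cj K) := le_of_perfect (cj_normal K) h.cj_sup (commutator_self hL)
  have h2 := comm_sSup (s := cj K) (t := {L}) (cj_comp h.comp) (by
    intro M hM
    rw [Set.mem_singleton_iff.mp hM]
    exact hL) (by
    intro M hM hM'
    rw [Set.mem_singleton_iff.mp hM'] at hM
    exact hcon hM)
  rw [sSup_singleton] at h2
  apply ne_bot hL
  rw [← commutator_self hL, commutator_eq_bot_iff_le_centralizer]
  intro x hx
  rw [mem_centralizer_iff]
  intro y hy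
  exact h2 y (h1 hy) x hx

theorem layer_eq : layer Y = sSup (cj K) := by
  apply le_antisymm
  · exact sSup_le fun L hL => le_sSup (h.mem_cj hL)
  · exact sSup_le fun L hL => le_sSup (cj_comp h.comp L hL)

/-- `Y = E(Y)T` -/
theorem layer_sup : layer Y ⊔ (T : Subgroup Y) = ⊤ := by
  rw [h.layer_eq]
  exact h.cj_sup

theorem exists_mul (y : Y) : ∃ t ∈ (T : Subgroup Y), ∃ x ∈ layer Y, t * x = y := by
  have : (layer Y).Normal := layer_normal
  have h1 : y ∈ (T : Subgroup Y) ⊔ layer Y := by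
    rw [sup_comm, h.layer_sup]
    exact mem_top y
  exact mem_sup_of_normal_right.mp h1

/-- `T` is transitive on the components -/
theorem trans {L : Subgroup Y} (hL : IsComponent L) :
    ∃ t ∈ (T : Subgroup Y), K.map (MulAut.conj t).toMonoidHom = L := by
  obtain ⟨g, rfl⟩ := h.mem_cj hL
  obtain ⟨t, ht, x, hx, rfl⟩ := h.exists_mul g
  refine ⟨t, ht, ?_⟩
  rw [← conj_conj, conj_eq_of_mem (layer_le_normalizer h.comp hx)]

theorem even_of {L : Subgroup Y} (hL : IsComponent L) : 2 ∣ Nat.card L := by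
  obtain ⟨g, rfl⟩ := h.mem_cj hL
  rw [card_map_of_injective (MulAut.conj g).injective]
  exact h.even

theorem sit_of {L : Subgroup Y} (hL : IsComponent L) : Sit T Mx L := ⟨h.toMinP, hL, h.even_of hL⟩

/-- a normal subgroup of even order contains `E(Y)` -/
theorem layer_le {X : Subgroup Y} (hX : X.Normal) (h2 : 2 ∣ Nat.card X) : layer Y ≤ X :=
  le_of_perfect hX (h.fr hX h2) perf_layer

theorem comp_le {L : Subgroup Y} (hL : IsComponent L) : L ≤ layer Y := le_sSup hL

/-- `C_Y(E(Y))` has odd order -/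
theorem cent_odd : ¬ 2 ∣ Nat.card (centralizer (layer Y : Set Y)) := by
  intro h2
  have : (layer Y).Normal := layer_normal
  have h1 : layer Y ≤ centralizer (layer Y : Set Y) := h.layer_le inferInstance h2
  apply ne_bot h.comp
  rw [← commutator_self h.comp, commutator_eq_bot_iff_le_centralizer]
  exact (h.comp_le h.comp).trans (h1.trans (centralizer_le (h.comp_le h.comp)))

/-- a 2-element centralising `E(Y)` is trivial -/
theorem eq_one_of_cent {y : Y} (hy : y * y = 1) (hc : ∀ x ∈ layer Y, y * x = x * y) : y = 1 := by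
  have : Fact (Nat.Prime 2) := ⟨Nat.prime_two⟩
  by_contra hne
  apply h.cent_odd
  have h1 : orderOf y = 2 := orderOf_eq_prime (by rw [pow_two, hy]) hne
  have h2 : zpowers y ≤ centralizer (layer Y : Set Y) := by
    rw [zpowers_le, mem_centralizer_iff]
    intro x hx
    exact (hc x hx).symm
  have h3 := card_dvd_of_le h2
  rwa [Nat.card_zpowers, h1] at h3

end Sit

/-! ### moving a component -/

/-- `U` moves a component: `N₁`, `N₂`, `N₃` are products of components, `A` of index 2 in `U` normalises them,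
the elements of `U - A` interchange `N₁` and `N₂` -/
structure Mv (U K N₁ N₂ N₃ A : Subgroup Y) : Prop where
  le : K ≤ N₁
  sup : N₁ ⊔ N₂ ⊔ N₃ = layer Y
  p₁ : ⁅N₁, N₁⁆ = N₁
  p₂ : ⁅N₂, N₂⁆ = N₂
  p₃ : ⁅N₃, N₃⁆ = N₃
  c₁₂ : ∀ x ∈ N₁, ∀ y ∈ N₂, x * y = y * x
  c₁₃ : ∀ x ∈ N₁, ∀ y ∈ N₃, x * y = y * x
  c₂₃ : ∀ x ∈ N₂, ∀ y ∈ N₃, x * y = y * x
  AU : A ≤ U
  idx : A.relIndex U = 2
  A₁ : A ≤ normalizer (N₁ : Set Y)
  A₂ : A ≤ normalizer (N₂ : Set Y)
  U₃ : U ≤ normalizer (N₃ : Set Y)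
  sw : ∀ x ∈ U, x ∉ A → N₁.map (MulAut.conj x).toMonoidHom = N₂
  sw' : ∀ x ∈ U, x ∉ A → N₂.map (MulAut.conj x).toMonoidHom = N₁

theorem exists_mv [Finite Y] {U K : Subgroup Y} (hU : ∀ u ∈ U, u * u = 1) (hK : IsComponent K)
    (hmv : ¬ U ≤ normalizer (K : Set Y)) : ∃ N₁ N₂ N₃ A, Mv U K N₁ N₂ N₃ A := by
  obtain ⟨A, hAU, hBA, hAne, hA2⟩ := exists_index_two hU (B := U ⊓ normalizer (K : Set Y))
    inf_le_left (fun h => hmv (fun u hu => (h.ge hu).2))
  obtain ⟨x, hx, hxA⟩ : ∃ x ∈ U, x ∉ A := by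
    by_contra hcon
    push Not at hcon
    exact hAne (le_antisymm hAU hcon)
  let s : Set (Subgroup Y) := {L | ∃ a ∈ A, K.map (MulAut.conj a).toMonoidHom = L}
  let t : Set (Subgroup Y) := {L | ∃ a ∈ A, K.map (MulAut.conj (a * x)).toMonoidHom = L}
  let r : Set (Subgroup Y) := {L | IsComponent L ∧ L ∉ s ∧ L ∉ t}
  have hs : ∀ L ∈ s, IsComponent L := by
    rintro L ⟨a, -, rfl⟩
    exact component_conj hK _
  have ht : ∀ L ∈ t, IsComponent L := by
    rintro L ⟨a, -, rfl⟩
    exact component_conj hK _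
  have hr : ∀ L ∈ r, IsComponent L := fun L hL => hL.1
  have hd : ∀ L ∈ s, L ∉ t := by
    rintro L ⟨a, ha, rfl⟩ ⟨b, hb, hab⟩
    have h1 : K.map (MulAut.conj (a⁻¹ * (b * x))).toMonoidHom = K := by
      rw [← conj_conj, hab, conj_conj, inv_mul_cancel, conj_one]
    have h2 : a⁻¹ * (b * x) ∈ A :=
      hBA ⟨U.mul_mem (U.inv_mem (hAU ha)) (U.mul_mem (hAU hb) hx), mem_normalizer_of_conj h1⟩
    apply hxA
    have h3 := A.mul_mem (A.inv_mem hb) (A.mul_mem ha h2)
    simpa [mul_assoc] using h3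
  have hAs : ∀ a ∈ A, ∀ L ∈ s, L.map (MulAut.conj a).toMonoidHom ∈ s := by
    rintro a ha L ⟨b, hb, rfl⟩
    exact ⟨a * b, A.mul_mem ha hb, (conj_conj _ _ _).symm⟩
  have hAt : ∀ a ∈ A, ∀ L ∈ t, L.map (MulAut.conj a).toMonoidHom ∈ t := by
    rintro a ha L ⟨b, hb, rfl⟩
    exact ⟨a * b, A.mul_mem ha hb, by rw [conj_conj, mul_assoc]⟩
  have hst : ∀ y ∈ U, y ∉ A → ∀ L ∈ s, L.map (MulAut.conj y).toMonoidHom ∈ t := by
    rintro y hy hyA L ⟨a, ha, rfl⟩
    have hyx : y * x ∈ A := hA2 x hx hxA y hy hyA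
    refine ⟨a * (y * x), A.mul_mem ha hyx, ?_⟩
    rw [conj_conj]
    congr 3
    have h1 := comm_of_sq hU hy (hAU ha)
    rw [mul_assoc, mul_assoc, hU x hx, mul_one, h1]
  have hts : ∀ y ∈ U, y ∉ A → ∀ L ∈ t, L.map (MulAut.conj y).toMonoidHom ∈ s := by
    rintro y hy hyA L ⟨a, ha, rfl⟩
    have hyx : y * x ∈ A := hA2 x hx hxA y hy hyA
    refine ⟨a * (y * x), A.mul_mem ha hyx, ?_⟩
    rw [conj_conj]
    congr 3
    have h1 := comm_of_sq hU hy (hAU ha)
    rw [← mul_assoc, ← mul_assoc, h1]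
  have hUi : ∀ y ∈ U, y⁻¹ = y := fun y hy => inv_eq_of_mul_eq_one_left (hU y hy)
  have hUr : ∀ y ∈ U, ∀ L ∈ r, L.map (MulAut.conj y).toMonoidHom ∈ r := by
    rintro y hy L ⟨hL, hLs, hLt⟩
    have e : (L.map (MulAut.conj y).toMonoidHom).map (MulAut.conj y).toMonoidHom = L := by
      rw [conj_conj, hU y hy, conj_one]
    refine ⟨component_conj hL y, fun hcon => ?_, fun hcon => ?_⟩
    · by_cases hyA : y ∈ A
      · have h1 := hAs y hyA _ hcon
        rw [e] at h1
        exact hLs h1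
      · have h1 := hst y hy hyA _ hcon
        rw [e] at h1
        exact hLt h1
    · by_cases hyA : y ∈ A
      · have h1 := hAt y hyA _ hcon
        rw [e] at h1
        exact hLt h1
      · have h1 := hts y hy hyA _ hcon
        rw [e] at h1
        exact hLs h1
  refine ⟨sSup s, sSup t, sSup r, A, ?_⟩
  exact
    { le := le_sSup ⟨1, A.one_mem, conj_one K⟩
      sup := by
        apply le_antisymm
        · exact sup_le (sup_le (sSup_le fun L hL => le_sSup (hs L hL)) (sSup_le fun L hL => le_sSup (ht L hL)))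
            (sSup_le fun L hL => le_sSup (hr L hL))
        · refine sSup_le fun L hL => ?_
          by_cases h1 : L ∈ s
          · exact (le_sSup h1).trans (le_sup_left.trans le_sup_left)
          by_cases h2 : L ∈ t
          · exact (le_sSup h2).trans (le_sup_right.trans le_sup_left)
          have h3 : L ∈ r := ⟨hL, h1, h2⟩
          exact (le_sSup h3).trans le_sup_right
      p₁ := perf_sSup hs
      p₂ := perf_sSup ht
      p₃ := perf_sSup hr
      c₁₂ := comm_sSup hs ht hd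
      c₁₃ := comm_sSup hs hr fun L hL h => h.2.1 hL
      c₂₃ := comm_sSup ht hr fun L hL h => h.2.2 hL
      AU := hAU
      idx := relIndex_two hAU hAne hA2
      A₁ := fun a ha => mem_normalizer_of_conj (conj_sSup_eq (hAs a ha) (hAs a⁻¹ (A.inv_mem ha)))
      A₂ := fun a ha => mem_normalizer_of_conj (conj_sSup_eq (hAt a ha) (hAt a⁻¹ (A.inv_mem ha)))
      U₃ := fun a ha => mem_normalizer_of_conj (conj_sSup_eq (hUr a ha) (by rw [hUi a ha]; exact hUr a ha))
      sw := fun y hy hyA => conj_sSup_eq (hst y hy hyA) (by rw [hUi y hy]; exact hts y hy hyA)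
      sw' := fun y hy hyA => conj_sSup_eq (hts y hy hyA) (by rw [hUi y hy]; exact hst y hy hyA) }

/-- the product of the components different from `K` -/
def ot (K : Subgroup Y) : Subgroup Y := sSup {L : Subgroup Y | IsComponent L ∧ L ≠ K}

theorem sup_ot {K : Subgroup Y} (hK : IsComponent K) : K ⊔ ot K = layer Y := by
  apply le_antisymm
  · exact sup_le (le_sSup hK) (sSup_le fun L hL => le_sSup hL.1)
  · refine sSup_le fun L hL => ?_
    by_cases h : L = K
    · rw [h]; exact le_sup_left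
    · have h3 : L ∈ {L : Subgroup Y | IsComponent L ∧ L ≠ K} := ⟨hL, h⟩
      exact (le_sSup h3).trans le_sup_right

theorem comm_ot {K : Subgroup Y} (hK : IsComponent K) : ∀ x ∈ K, ∀ y ∈ ot K, x * y = y * x := by
  have h1 := comm_sSup (s := {K}) (t := {L : Subgroup Y | IsComponent L ∧ L ≠ K}) (by
    intro M hM
    rw [Set.mem_singleton_iff.mp hM]
    exact hK) (fun L hL => hL.1) (by
    intro M hM hM'
    exact hM'.2 (Set.mem_singleton_iff.mp hM))
  rw [sSup_singleton] at h1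
  exact h1

theorem perf_ot {K : Subgroup Y} : ⁅ot K, ot K⁆ = ot K := perf_sSup fun _ hL => hL.1

/-- `C_Y(L₁)`-part: `(ot K)^g = ot (K^g)` -/
theorem conj_ot {K : Subgroup Y} (g : Y) :
    (ot K).map (MulAut.conj g).toMonoidHom = ot (K.map (MulAut.conj g).toMonoidHom) := by
  apply conj_sSup_eq
  · rintro L ⟨hL, hne⟩
    refine ⟨component_conj hL g, fun hcon => hne ?_⟩
    have h1 := congrArg (fun X : Subgroup Y => X.map (MulAut.conj g⁻¹).toMonoidHom) hcon
    simp only [conj_conj, inv_mul_cancel, conj_one] at h1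
    exact h1
  · rintro L ⟨hL, hne⟩
    refine ⟨component_conj hL g⁻¹, fun hcon => hne ?_⟩
    have h1 := congrArg (fun X : Subgroup Y => X.map (MulAut.conj g).toMonoidHom) hcon
    simp only [conj_conj, mul_inv_cancel, conj_one] at h1
    exact h1

theorem normalizer_le_ot {K : Subgroup Y} : normalizer (K : Set Y) ≤ normalizer (ot K : Set Y) := by
  intro g hg
  apply mem_normalizer_of_conj
  rw [conj_ot, conj_eq_of_mem hg]

end Cfsg.Agent.Omega.NO1.Comp.Grp

end

section


/-!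
# THEOREM COMP (bb OMEGA #17539), step (0): the module facts of FLAT and the Induction Lemma

`V` an additive group of exponent 2 on which the group `H` acts, `U ≤ H`.

* `FlatA U E F` : the module facts of FLAT: `F = C_V(U) ≤ E < V`, `[V,U] ≤ E`, `[E,U] ≤ F`,
  `E = [w,U] + F` for every `w ∈ V - E`, `U` acts as an elementary abelian 2-group;
* `FlatA.ks` **(KS)** : `V = A ⊕ B` (`U`-invariant) implies that `U` centralises `A` or `B`;
* `FlatA.ind` **(0)** : `V|_U = V₀ ⊕ X ⊕ X^s` with a subgroup `U₁` of index 2 of `U` leaving `X`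
  invariant, `s ∈ U - U₁`, implies `X = 0` or `V = E ∪ (x + E)`.
-/

set_option autoImplicit false

namespace Cfsg.Agent.Omega.NO1.Comp

universe u v

variable {H : Type u} [Group H] {V : Type v} [AddCommGroup V] [DistribMulAction H V]

/-- The module facts of FLAT for the action of `U` on `V`. -/
structure FlatA (U : Subgroup H) (E F : AddSubgroup V) : Prop where
  two : ∀ v : V, v + v = 0
  F_iff : ∀ v, v ∈ F ↔ ∀ u ∈ U, u • v = v
  VE : ∀ u ∈ U, ∀ v, u • v + v ∈ E
  EF : ∀ u ∈ U, ∀ v ∈ E, u • v + v ∈ F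
  reg : ∀ w, w ∉ E → ∀ e ∈ E, ∃ u ∈ U, u • w + w + e ∈ F
  ab : ∀ s ∈ U, ∀ t ∈ U, ∀ v : V, s • t • v = t • s • v
  inv : ∀ s ∈ U, ∀ v : V, s • s • v = v
  ne : ¬ E ≤ F
  ne' : ∃ w, w ∉ E

namespace FlatA

variable {U : Subgroup H} {E F : AddSubgroup V} (h : FlatA U E F)
include h

theorem neg (v : V) : -v = v := by
  rw [neg_eq_iff_add_eq_zero]
  exact h.two v

theorem add_eq {a b : V} : a + b = 0 ↔ a = b := by
  rw [add_eq_zero_iff_eq_neg, h.neg]

theorem cancel (a b : V) : a + (a + b) = b := by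
  rw [← add_assoc, h.two, zero_add]

theorem fix {f : V} (hf : f ∈ F) {u : H} (hu : u ∈ U) : u • f = f := (h.F_iff f).1 hf u hu

theorem F_le : F ≤ E := by
  intro f hf
  by_contra hfE
  apply h.ne
  intro e he
  obtain ⟨u, hu, h1⟩ := h.reg f hfE e he
  rwa [h.fix hf hu, h.two, zero_add] at h1

theorem mem_E {v : V} (hv : ∀ u ∈ U, u • v + v ∈ F) : v ∈ E := by
  by_contra hvE
  apply h.ne
  intro e he
  obtain ⟨u, hu, h1⟩ := h.reg v hvE e he
  exact (F.add_mem_cancel_left (hv u hu)).1 h1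

/-- **(KS)** -/
theorem ks {A B : AddSubgroup V} (hA : ∀ u ∈ U, ∀ a ∈ A, u • a ∈ A) (hB : ∀ u ∈ U, ∀ b ∈ B, u • b ∈ B)
    (hAB : A ⊓ B = ⊥) (hs : A ⊔ B = ⊤) : A ≤ F ∨ B ≤ F := by
  -- if `A ≰ E` then `B ∩ E ≤ F`
  have key : ∀ A B : AddSubgroup V, (∀ u ∈ U, ∀ a ∈ A, u • a ∈ A) → (∀ u ∈ U, ∀ b ∈ B, u • b ∈ B) →
      A ⊓ B = ⊥ → A ⊔ B = ⊤ → ¬ A ≤ E → ∀ b ∈ B, b ∈ E → b ∈ F := by
    intro A B hA hB hAB hs hAE b hb hbE
    obtain ⟨w, hw, hwE⟩ := SetLike.not_le_iff_exists.1 hAE
    obtain ⟨u, hu, h1⟩ := h.reg w hwE b hbE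
    rw [h.F_iff]
    intro t ht
    have h2 := h.fix h1 ht
    have h3 : u • w + w ∈ A := A.add_mem (hA u hu w hw) hw
    rw [smul_add] at h2
    have h4 : t • b - b ∈ A ⊓ B := by
      refine ⟨?_, B.sub_mem (hB t ht b hb) hb⟩
      have e : t • b - b = (u • w + w) - t • (u • w + w) := by
        rw [sub_eq_sub_iff_add_eq_add, add_comm, h2]
      rw [e]
      exact A.sub_mem h3 (hA t ht _ h3)
    rw [hAB, AddSubgroup.mem_bot] at h4
    exact sub_eq_zero.1 h4
  by_cases hAE : A ≤ E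
  · by_cases hBE : B ≤ E
    · exfalso
      obtain ⟨w, hw⟩ := h.ne'
      have : w ∈ A ⊔ B := by rw [hs]; trivial
      exact hw ((sup_le hAE hBE) this)
    · left
      intro a ha
      exact key B A hB hA (by rw [inf_comm]; exact hAB) (by rw [sup_comm]; exact hs) hBE a ha (hAE ha)
  · right
    intro b hb
    refine key A B hA hB hAB hs hAE b hb ?_
    by_contra hbE
    apply h.ne
    intro e he
    have : e ∈ A ⊔ B := by rw [hs]; trivial
    obtain ⟨a, ha, b', hb', rfl⟩ := AddSubgroup.mem_sup.1 this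
    -- the coordinates of `e ∈ E`
    obtain ⟨w, hw, hwE⟩ := SetLike.not_le_iff_exists.1 hAE
    obtain ⟨u, hu, h1⟩ := h.reg w hwE _ he
    obtain ⟨u', hu', h2⟩ := h.reg b hbE _ he
    rw [h.F_iff]
    intro t ht
    have h3 := h.fix h1 ht
    have h4 := h.fix h2 ht
    have e1 : u • w + w ∈ A := A.add_mem (hA u hu w hw) hw
    have e2 : u' • b + b ∈ B := B.add_mem (hB u' hu' b hb) hb
    have ha' : t • a = a := by
      have h5 : t • a - a ∈ A ⊓ B := by
        refine ⟨A.sub_mem (hA t ht a ha) ha, ?_⟩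
        have e : t • a - a = (u' • b + b + b') - t • (u' • b + b + b') := by
          rw [sub_eq_sub_iff_add_eq_add]
          have h6 : t • (u' • b + b + b') + t • a = (u' • b + b + b') + a := by
            rw [← smul_add]
            have : u' • b + b + b' + a = u' • b + b + (a + b') := by abel
            rw [this]; exact h4
          rw [add_comm, h6]
        rw [e]
        exact B.sub_mem (B.add_mem e2 hb') (hB t ht _ (B.add_mem e2 hb'))
      rw [hAB, AddSubgroup.mem_bot] at h5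
      exact sub_eq_zero.1 h5
    have hb2 : t • b' = b' := by
      have h5 : t • b' - b' ∈ A ⊓ B := by
        refine ⟨?_, B.sub_mem (hB t ht b' hb') hb'⟩
        have e : t • b' - b' = (u • w + w + a) - t • (u • w + w + a) := by
          rw [sub_eq_sub_iff_add_eq_add]
          have h6 : t • (u • w + w + a) + t • b' = (u • w + w + a) + b' := by
            rw [← smul_add]
            have : u • w + w + a + b' = u • w + w + (a + b') := by abel
            rw [this]; exact h3
          rw [add_comm, h6]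
        rw [e]
        exact A.sub_mem (A.add_mem e1 ha) (hA t ht _ (A.add_mem e1 ha))
      rw [hAB, AddSubgroup.mem_bot] at h5
      exact sub_eq_zero.1 h5
    rw [smul_add, ha', hb2]

/-- **(0)**, the Induction Lemma: `V = V₀ ⊕ X ⊕ sX`, `U = U₁ ∪ U₁s`, `U₁` leaves `X` invariant. -/
theorem ind {V0 X : AddSubgroup V} {U1 : Subgroup H} {s : H} (hs : s ∈ U) (hU1 : U1 ≤ U)
    (hU : ∀ u ∈ U, u ∈ U1 ∨ ∃ u1 ∈ U1, u = s * u1)
    (hV0 : ∀ u ∈ U, ∀ a ∈ V0, u • a ∈ V0) (hX : ∀ u ∈ U1, ∀ x ∈ X, u • x ∈ X)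
    (hd : ∀ a ∈ V0, ∀ x ∈ X, ∀ y ∈ X, a + x + s • y = 0 → a = 0 ∧ x = 0 ∧ y = 0)
    (hsup : ∀ v : V, ∃ a ∈ V0, ∃ x ∈ X, ∃ y ∈ X, v = a + x + s • y) (hX0 : X ≠ ⊥) :
    ∃ x, ∀ v : V, v ∈ E ∨ v + x ∈ E := by
  have hss : ∀ v : V, s • s • v = v := h.inv s hs
  -- comparison of coordinates
  have hcmp : ∀ a ∈ V0, ∀ a' ∈ V0, ∀ x ∈ X, ∀ x' ∈ X, ∀ y ∈ X, ∀ y' ∈ X,
      a + x + s • y = a' + x' + s • y' → a = a' ∧ x = x' ∧ y = y' := by
    intro a ha a' ha' x hx x' hx' y hy y' hy' he
    have := hd (a - a') (V0.sub_mem ha ha') (x - x') (X.sub_mem hx hx') (y - y') (X.sub_mem hy hy') (by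
      rw [smul_sub]
      have e : a - a' + (x - x') + (s • y - s • y') = (a + x + s • y) - (a' + x' + s • y') := by abel
      rw [e, he, sub_self])
    exact ⟨sub_eq_zero.1 this.1, sub_eq_zero.1 this.2.1, sub_eq_zero.1 this.2.2⟩
  -- `V₀ ≤ F`
  let Y : AddSubgroup V :=
    { carrier := {v | ∃ x ∈ X, ∃ y ∈ X, v = x + s • y}
      zero_mem' := ⟨0, X.zero_mem, 0, X.zero_mem, by simp⟩
      add_mem' := by
        rintro _ _ ⟨x, hx, y, hy, rfl⟩ ⟨x', hx', y', hy', rfl⟩
        exact ⟨x + x', X.add_mem hx hx', y + y', X.add_mem hy hy', by rw [smul_add]; abel⟩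
      neg_mem' := by
        rintro _ ⟨x, hx, y, hy, rfl⟩
        exact ⟨-x, X.neg_mem hx, -y, X.neg_mem hy, by rw [smul_neg]; abel⟩ }
  have hcomm : ∀ u ∈ U1, ∀ v : V, u • s • v = s • u • v := fun u hu v => h.ab u (hU1 hu) s hs v
  have hY : ∀ u ∈ U, ∀ v ∈ Y, u • v ∈ Y := by
    rintro u hu _ ⟨x, hx, y, hy, rfl⟩
    rcases hU u hu with h1 | ⟨u1, h1, rfl⟩
    · exact ⟨u • x, hX u h1 x hx, u • y, hX u h1 y hy, by rw [smul_add, hcomm u h1]⟩
    · refine ⟨u1 • y, hX u1 h1 y hy, u1 • x, hX u1 h1 x hx, ?_⟩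
      rw [mul_smul, smul_add, smul_add, hcomm u1 h1, hss, add_comm]
  obtain ⟨x0, hx0, hx00⟩ : ∃ x ∈ X, x ≠ 0 := by
    by_contra hcon
    push Not at hcon
    exact hX0 ((AddSubgroup.eq_bot_iff_forall X).2 hcon)
  have hV0F : V0 ≤ F := by
    refine (h.ks hV0 hY ?_ ?_).resolve_right ?_
    · rw [eq_bot_iff]
      rintro v ⟨hv, x, hx, y, hy, he⟩
      have := hcmp v hv 0 V0.zero_mem 0 X.zero_mem x hx 0 X.zero_mem y hy (by
        rw [smul_zero, add_zero, add_zero, zero_add]; exact he)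
      rw [this.1]; exact AddSubgroup.zero_mem _
    · rw [eq_top_iff]
      intro v _
      obtain ⟨a, ha, x, hx, y, hy, rfl⟩ := hsup v
      rw [add_assoc]
      exact AddSubgroup.add_mem_sup ha ⟨x, hx, y, hy, rfl⟩
    · intro hYF
      have h1 : x0 ∈ F := hYF ⟨x0, hx0, 0, X.zero_mem, by simp⟩
      have h2 := h.fix h1 hs
      have := hcmp 0 V0.zero_mem 0 V0.zero_mem 0 X.zero_mem x0 hx0 x0 hx0 0 X.zero_mem (by
        rw [smul_zero, h2, zero_add, zero_add, add_zero])
      exact hx00 this.2.2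
  -- the elements of `F`
  have hF : ∀ f ∈ F, ∃ a ∈ V0, ∃ c ∈ X, f = a + c + s • c ∧ ∀ u ∈ U1, u • c = c := by
    intro f hf
    obtain ⟨a, ha, x, hx, y, hy, rfl⟩ := hsup f
    have h1 := h.fix hf hs
    rw [smul_add, smul_add, hss, h.fix (hV0F ha) hs] at h1
    have h2 : a + y + s • x = a + x + s • y := by
      rw [← h1]; abel
    obtain ⟨-, h3, -⟩ := hcmp a ha a ha y hy x hx x hx y hy h2
    subst h3
    refine ⟨a, ha, y, hy, rfl, fun u hu => ?_⟩
    have h4 := h.fix hf (hU1 hu)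
    rw [smul_add, smul_add, hcomm u hu, h.fix (hV0F ha) (hU1 hu)] at h4
    exact (hcmp a ha a ha _ (hX u hu y hy) y hy _ (hX u hu y hy) y hy h4).2.1
  -- `x + sx ∈ E`
  have hxE : ∀ x : V, s • x + x ∈ E := fun x => h.VE s hs x
  -- `C = C_X(U₁) ≤ E`
  have hC : ∀ c ∈ X, (∀ u ∈ U1, u • c = c) → c ∈ E := by
    intro c hc hcu
    by_contra hcE
    apply h.ne
    intro e he
    obtain ⟨u, hu, h1⟩ := h.reg c hcE e he
    have hcF : s • c + c ∈ F := by
      rw [h.F_iff]
      intro t ht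
      rcases hU t ht with h2 | ⟨t1, h2, rfl⟩
      · rw [smul_add, hcomm t h2, hcu t h2]
      · rw [mul_smul, smul_add, hcomm t1 h2, hcu t1 h2, smul_add, hss, add_comm]
    rcases hU u hu with h2 | ⟨u1, h2, rfl⟩
    · rwa [hcu u h2, h.two, zero_add] at h1
    · rw [mul_smul, hcu u1 h2] at h1
      exact (F.add_mem_cancel_left hcF).1 h1
  -- an element of `X` outside `E`
  obtain ⟨x, hx, hxE'⟩ : ∃ x ∈ X, x ∉ E := by
    by_contra hcon
    push Not at hcon
    obtain ⟨w, hw⟩ := h.ne'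
    apply hw
    obtain ⟨a, ha, x, hx, y, hy, rfl⟩ := hsup w
    refine E.add_mem (E.add_mem (h.F_le (hV0F ha)) (hcon x hx)) ?_
    exact (E.add_mem_cancel_right (hcon y hy)).1 (hxE y)
  -- every `y ∈ X` is in `C` or in `x + C`
  have hy2 : ∀ y ∈ X, y ∈ E ∨ y + x ∈ E := by
    intro y hy
    obtain ⟨u, hu, h1⟩ := h.reg x hxE' _ (hxE y)
    obtain ⟨a, ha, c, hc, he, hcu⟩ := hF _ h1
    rcases hU u hu with h2 | ⟨u1, h2, rfl⟩
    · left
      have h3 : 0 + (u • x + x + y) + s • y = a + c + s • c := by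
        rw [← he]; abel
      obtain ⟨-, -, h4⟩ := hcmp 0 V0.zero_mem a ha _ (X.add_mem (X.add_mem (hX u h2 x hx) hx) hy) c hc
        y hy c hc h3
      rw [h4]
      exact hC c hc hcu
    · right
      have h3 : 0 + (x + y) + s • (u1 • x + y) = a + c + s • c := by
        rw [← he, mul_smul, smul_add]; abel
      obtain ⟨-, h4, -⟩ := hcmp 0 V0.zero_mem a ha _ (X.add_mem hx hy) c hc _
        (X.add_mem (hX u1 h2 x hx) hy) c hc h3
      rw [add_comm, h4]
      exact hC c hc hcu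
  refine ⟨x, fun v => ?_⟩
  obtain ⟨a, ha, y, hy, z, hz, rfl⟩ := hsup v
  have haE := h.F_le (hV0F ha)
  have hz' : s • z + z ∈ E := hxE z
  have e : a + y + s • z = (a + (s • z + z)) + (y + z) := by
    have : a + (s • z + z) + (y + z) = a + y + s • z + (z + z) := by abel
    rw [this, h.two, add_zero]
  rw [e]
  rcases hy2 (y + z) (X.add_mem hy hz) with h5 | h5
  · exact Or.inl (E.add_mem (E.add_mem haE hz') h5)
  · right
    rw [add_assoc]
    exact E.add_mem (E.add_mem haE hz') h5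

end FlatA

end Cfsg.Agent.Omega.NO1.Comp

end

section


/-!
# THEOREM COMP (bb OMEGA #17539), step (1): `U` centralises every `U`-invariant subgroup of odd order

* `odd_of_hyp` : an elementary abelian 2-group `A` normalising `O` of odd order centralises `O` if it centralises
  `C_O(B)` for every hyperplane `B` of `A`;
* `FlatA.odd_inv` : an element of odd order centralised by a hyperplane `U₁` and inverted by `s ∈ U - U₁` is trivial;
* `FlatA.odd_comm` **(1)**.
-/

set_option autoImplicit false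

namespace Cfsg.Agent.Omega.NO1.Comp

open Subgroup

universe u v

section Hyp

variable {H : Type u} [Group H]

/-- `B ∪ Bx` -/
def adj (B : Subgroup H) (x : H) (hx : x * x = 1) (hc : ∀ b ∈ B, x * b = b * x) : Subgroup H where
  carrier := {y | y ∈ B ∨ y * x ∈ B}
  one_mem' := Or.inl B.one_mem
  mul_mem' := by
    rintro y w (hy | hy) (hw | hw)
    · exact Or.inl (B.mul_mem hy hw)
    · right
      rw [mul_assoc]
      exact B.mul_mem hy hw
    · right
      rw [mul_assoc, ← hc w hw, ← mul_assoc]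
      exact B.mul_mem hy hw
    · left
      have h1 : y * w = y * x * (w * x) := by
        rw [mul_assoc y x, hc _ hw, mul_assoc w x x, hx, mul_one]
      rw [h1]
      exact B.mul_mem hy hw
  inv_mem' := by
    rintro y (hy | hy)
    · exact Or.inl (B.inv_mem hy)
    · right
      have h1 : (y * x)⁻¹ ∈ B := B.inv_mem hy
      have h2 : x⁻¹ = x := inv_eq_of_mul_eq_one_right hx
      rw [mul_inv_rev, h2] at h1
      have h3 := hc _ h1
      rw [← mul_assoc, hx, one_mul] at h3
      have h4 : y⁻¹ * x = x * y⁻¹ := by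
        calc y⁻¹ * x = x * y⁻¹ * x * x := by rw [← h3]
          _ = x * y⁻¹ := by rw [mul_assoc, hx, mul_one]
      rw [h4]
      exact h1

theorem mem_adj {B : Subgroup H} {x : H} {hx : x * x = 1} {hc : ∀ b ∈ B, x * b = b * x} {y : H} :
    y ∈ adj B x hx hc ↔ y ∈ B ∨ y * x ∈ B := Iff.rfl

/-- hyperplane generation for an elementary abelian 2-group acting on a group of odd order -/
theorem odd_of_hyp [Finite H] {A O : Subgroup H} (sq : ∀ a ∈ A, a * a = 1) (comm : ∀ a ∈ A, ∀ b ∈ A, a * b = b * a)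
    (hO : Odd (Nat.card O)) (hn : ∀ a ∈ A, ∀ x ∈ O, a * x * a⁻¹ ∈ O)
    (hyp : ∀ B ≤ A, B.relIndex A = 2 → O ⊓ centralizer (B : Set H) ≤ centralizer (A : Set H)) :
    O ≤ centralizer (A : Set H) := by
  -- all proper subgroups
  have main : ∀ B : Subgroup H, B < A → O ⊓ centralizer (B : Set H) ≤ centralizer (A : Set H) := by
    intro B
    induction B using WellFoundedGT.induction with
    | ind B ih =>
      intro hB
      by_cases h2 : B.relIndex A = 2
      · exact hyp B hB.le h2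
      have hBc : ∀ x ∈ A, ∀ b ∈ B, x * b = b * x := fun x hx b hb => comm x hx b (hB.le hb)
      have hstep : ∀ x, ∀ hx : x ∈ A, x ∉ B →
          B < adj B x (sq x hx) (hBc x hx) ∧ adj B x (sq x hx) (hBc x hx) < A := by
        intro x hx hxB
        have h3 : x ∈ adj B x (sq x hx) (hBc x hx) := Or.inr (by rw [sq x hx]; exact B.one_mem)
        refine ⟨lt_of_le_of_ne (fun b hb => Or.inl hb) fun h4 => hxB (h4 ▸ h3), lt_of_le_of_ne ?_ fun h4 => h2 ?_⟩
        · rintro y (hy | hy)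
          · exact hB.le hy
          · have h5 := A.mul_mem (hB.le hy) (A.inv_mem hx)
            rwa [mul_inv_cancel_right] at h5
        · rw [relIndex_eq_two_iff]
          refine ⟨x, hx, fun b hb => ?_⟩
          have h5 : b ∈ adj B x (sq x hx) (hBc x hx) := by
            rw [h4]
            exact hb
          by_cases h6 : b ∈ B
          · refine Or.inr ⟨h6, fun h7 => hxB ?_⟩
            have := B.mul_mem (B.inv_mem h6) h7
            rwa [inv_mul_cancel_left] at this
          · exact Or.inl ⟨(mem_adj.1 h5).resolve_left h6, h6⟩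
      obtain ⟨a, haA, haB⟩ := SetLike.exists_of_lt hB
      obtain ⟨ha1, ha2⟩ := hstep a haA haB
      obtain ⟨b, hbA, hbB⟩ := SetLike.exists_of_lt ha2
      have hbB' : b ∉ B := fun h3 => hbB (Or.inl h3)
      have hab : a * b ∉ B := fun h3 => hbB (Or.inr (by rw [comm b hbA a haA]; exact h3))
      obtain ⟨hb1, hb2⟩ := hstep b hbA hbB'
      obtain ⟨hc1, hc2⟩ := hstep (a * b) (A.mul_mem haA hbA) hab
      have hodd : Odd (Nat.card (O ⊓ centralizer (B : Set H) : Subgroup H)) :=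
        hO.of_dvd_nat (card_dvd_of_le inf_le_left)
      have hcB : ∀ x ∈ A, ∀ y ∈ O ⊓ centralizer (B : Set H), x * y * x⁻¹ ∈ O ⊓ centralizer (B : Set H) := by
        rintro x hx y ⟨hy1, hy2⟩
        refine ⟨hn x hx y hy1, mem_centralizer_iff.2 fun c hc => ?_⟩
        have c1 : Commute c y := mem_centralizer_iff.1 hy2 c hc
        have c2 : Commute c x := (hBc x hx c hc).symm
        exact ((c2.mul_right c1).mul_right c2.inv_right).eq
      have hcl : ∀ x, ∀ hx : x ∈ A, adj B x (sq x hx) (hBc x hx) < A → B < adj B x (sq x hx) (hBc x hx) →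
          ∀ y ∈ O ⊓ centralizer (B : Set H), x * y = y * x → y ∈ centralizer (A : Set H) := by
        intro x hx h3 h4 y hy hxy
        refine ih _ h4 h3 ⟨hy.1, mem_centralizer_iff.2 ?_⟩
        rintro c (hc | hc)
        · exact mem_centralizer_iff.1 hy.2 c hc
        · have h5 := mem_centralizer_iff.1 hy.2 _ hc
          have h6 : c * x * y = c * y * x := by rw [mul_assoc, hxy, ← mul_assoc]
          rw [h6] at h5
          have h7 : c * y * x = y * c * x := by rw [h5, mul_assoc]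
          exact mul_right_cancel h7
      refine Lib.KleinGen.le_of_klein (O ⊓ centralizer (B : Set H)) (centralizer (A : Set H)) hodd a b
        (sq a haA) (sq b hbA) (comm a haA b hbA) (hcB a haA) (hcB b hbA) ?_ ?_ ?_
      · exact fun y hy => hcl a haA ha2 ha1 y hy.1 (mem_centralizer_iff.1 hy.2 a rfl)
      · exact fun y hy => hcl b hbA hb2 hb1 y hy.1 (mem_centralizer_iff.1 hy.2 b rfl)
      · exact fun y hy => hcl (a * b) (A.mul_mem haA hbA) hc2 hc1 y hy.1 (mem_centralizer_iff.1 hy.2 _ rfl)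
  intro x hx
  rcases eq_or_ne A ⊥ with rfl | hA
  · rw [mem_centralizer_iff]
    intro b hb
    rw [SetLike.mem_coe, mem_bot] at hb
    rw [hb, one_mul, mul_one]
  have h0 : x ∈ centralizer ((⊥ : Subgroup H) : Set H) := by
    rw [mem_centralizer_iff]
    intro b hb
    rw [SetLike.mem_coe, mem_bot] at hb
    rw [hb, one_mul, mul_one]
  exact main ⊥ (bot_lt_iff_ne_bot.2 hA) ⟨hx, h0⟩

end Hyp

variable {H : Type u} [Group H] {V : Type v} [AddCommGroup V] [DistribMulAction H V]

section nrm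

/-- `v + d v + ... + d^(n-1) v` -/
def nrm (d : H) (n : ℕ) (v : V) : V := ∑ i ∈ Finset.range n, d ^ i • v

theorem nrm_add (d : H) (n : ℕ) (v w : V) : nrm d n (v + w) = nrm d n v + nrm d n w := by
  simp only [nrm, smul_add, Finset.sum_add_distrib]

theorem smul_nrm_comm {d g : H} (hg : Commute g d) (n : ℕ) (v : V) : g • nrm d n v = nrm d n (g • v) := by
  rw [nrm, nrm, Finset.smul_sum]
  refine Finset.sum_congr rfl fun i _ => ?_
  rw [← mul_smul, ← mul_smul, (hg.pow_right i).eq]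

theorem smul_nrm {d : H} {n : ℕ} (hn : d ^ n = 1) (v : V) : d • nrm d n v = nrm d n v := by
  have h1 := Finset.sum_range_succ (fun i => d ^ i • v) n
  have h2 := Finset.sum_range_succ' (fun i => d ^ i • v) n
  rw [h1] at h2
  simp only [hn, pow_zero, one_smul] at h2
  have h3 := add_right_cancel h2
  rw [nrm, Finset.smul_sum, h3]
  refine Finset.sum_congr rfl fun i _ => ?_
  rw [pow_succ', mul_smul]

theorem smul_nrm_inv {d s : H} {n : ℕ} (hn : d ^ n = 1) (hs : s * d = d⁻¹ * s) (v : V) :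
    s • nrm d n v = nrm d n (s • v) := by
  have h1 : ∀ i : ℕ, s * d ^ i = (d ^ i)⁻¹ * s := by
    intro i
    induction i with
    | zero => simp
    | succ i ih => rw [pow_succ, ← mul_assoc, ih, mul_assoc, hs, ← mul_assoc, ← mul_inv_rev, ← pow_succ', pow_succ]
  have h2 : ∀ w : V, ∑ i ∈ Finset.range n, (d ^ i)⁻¹ • w = nrm d n w := by
    intro w
    rw [← smul_nrm hn w, nrm, ← Finset.sum_range_reflect (fun i => d ^ i • w), Finset.smul_sum]
    refine Finset.sum_congr rfl fun i hi => ?_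
    have h3 : i < n := Finset.mem_range.1 hi
    have h4 : (d ^ i)⁻¹ = d * d ^ (n - 1 - i) := by
      rw [inv_eq_iff_mul_eq_one, ← pow_succ', ← pow_add, ← hn]
      congr 1
      omega
    rw [h4, mul_smul]
  rw [← h2 (s • v), nrm, Finset.smul_sum]
  refine Finset.sum_congr rfl fun i _ => ?_
  rw [← mul_smul, ← mul_smul, h1]

theorem nrm_of_fixed (two : ∀ v : V, v + v = 0) {d : H} {n : ℕ} (hn : Odd n) {v : V} (hv : d • v = v) :
    nrm d n v = v := by
  have h1 : ∀ i : ℕ, d ^ i • v = v := by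
    intro i
    induction i with
    | zero => simp
    | succ i ih => rw [pow_succ, mul_smul, hv, ih]
  obtain ⟨m, rfl⟩ := hn
  rw [nrm, Finset.sum_congr rfl fun i _ => h1 i, Finset.sum_const, Finset.card_range, add_smul, mul_smul,
    two_nsmul, two, one_smul, zero_add]

theorem half_sum (d : H) (m : ℕ) (v : V) :
    ∑ j ∈ Finset.range m, d ^ (2 * j) • v + d • ∑ j ∈ Finset.range m, d ^ (2 * j) • v =
      ∑ i ∈ Finset.range (2 * m), d ^ i • v := by
  induction m with
  | zero => simp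
  | succ m ih =>
    rw [Finset.sum_range_succ, show 2 * (m + 1) = 2 * m + 1 + 1 by ring, Finset.sum_range_succ,
      Finset.sum_range_succ, ← ih, smul_add, ← mul_smul, ← pow_succ']
    abel

end nrm

namespace FlatA

variable {U : Subgroup H} {E F : AddSubgroup V} (h : FlatA U E F)
include h

/-- an element of odd order, centralised by `U₁` and inverted by `s ∈ U - U₁`, acts trivially -/
theorem odd_inv (h4 : ∀ x, ∃ v, v ∉ E ∧ v + x ∉ E) {U1 : Subgroup H} {s d : H} (hs : s ∈ U) (hU1 : U1 ≤ U)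
    (hU : ∀ u ∈ U, u ∈ U1 ∨ ∃ u1 ∈ U1, u = s * u1) {n : ℕ} (hn : Odd n) (hd : d ^ n = 1)
    (hsd : s * d = d⁻¹ * s) (hc : ∀ u ∈ U1, u * d = d * u) (v : V) : d • v = v := by
  obtain ⟨m, hm⟩ := id hn
  let c : H := d ^ (m + 1)
  have hcc : c * c = d := by
    change d ^ (m + 1) * d ^ (m + 1) = d
    rw [← pow_add, show m + 1 + (m + 1) = n + 1 by omega, pow_succ, hd, one_mul]
  have hscc : ∀ i : ℕ, s * d ^ i = (d ^ i)⁻¹ * s := by
    intro i
    induction i with
    | zero => simp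
    | succ i ih => rw [pow_succ, ← mul_assoc, ih, mul_assoc, hsd, ← mul_assoc, ← mul_inv_rev, ← pow_succ', pow_succ]
  have hsc : s * c = c⁻¹ * s := hscc (m + 1)
  have hcsc : c * s * c = s := by rw [mul_assoc, hsc, mul_inv_cancel_left]
  have hcd : Commute c d := (Commute.refl d).pow_left (m + 1)
  have hUc : ∀ u ∈ U1, Commute u c := fun u hu => (show Commute u d from hc u hu).pow_right (m + 1)
  have hs' : ∀ v : V, s • s • v = v := h.inv s hs
  let V0 : AddSubgroup V :=
    { carrier := {v | d • v = v}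
      zero_mem' := smul_zero d
      add_mem' := fun {a b} ha hb => by
        change d • (a + b) = a + b
        rw [smul_add, show d • a = a from ha, show d • b = b from hb]
      neg_mem' := fun {a} ha => by
        change d • -a = -a
        rw [smul_neg, show d • a = a from ha] }
  let X : AddSubgroup V :=
    { carrier := {v | nrm d n v = 0 ∧ c • v = s • v}
      zero_mem' := ⟨by simp [nrm], by rw [smul_zero, smul_zero]⟩
      add_mem' := fun {a b} ha hb => ⟨by rw [nrm_add, ha.1, hb.1, add_zero], by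
        rw [smul_add, smul_add, ha.2, hb.2]⟩
      neg_mem' := fun {a} ha => by
        rw [h.neg]
        exact ha }
  have hsup : ∀ v : V, ∃ a ∈ V0, ∃ x ∈ X, ∃ y ∈ X, v = a + x + s • y := by
    intro v
    have hNN : nrm d n (nrm d n v) = nrm d n v := nrm_of_fixed h.two hn (smul_nrm hd v)
    set v' := v + nrm d n v with hv'
    have hv0 : nrm d n v' = 0 := by rw [hv', nrm_add, hNN, h.two]
    set w := ∑ j ∈ Finset.range (m + 1), d ^ (2 * j) • v' with hw
    have hw1 : w + d • w = v' := by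
      rw [hw, half_sum, show 2 * (m + 1) = n + 1 by omega, Finset.sum_range_succ, hd, one_smul]
      change nrm d n v' + v' = v'
      rw [hv0, zero_add]
    have hNw : nrm d n w = 0 := by
      have h1 : ∀ k : ℕ, nrm d n (∑ j ∈ Finset.range k, d ^ (2 * j) • v') = 0 := by
        intro k
        induction k with
        | zero => simp [nrm]
        | succ k ih =>
          rw [Finset.sum_range_succ, nrm_add, ih, zero_add,
            ← smul_nrm_comm ((Commute.refl d).pow_left (2 * k)), hv0, smul_zero]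
      exact h1 (m + 1)
    have hNs : ∀ z : V, nrm d n z = 0 → nrm d n (s • z) = 0 := fun z hz => by
      rw [← smul_nrm_inv hd hsd, hz, smul_zero]
    have hNc : ∀ z : V, nrm d n z = 0 → nrm d n (c • z) = 0 := fun z hz => by
      rw [← smul_nrm_comm hcd, hz, smul_zero]
    have hNd : ∀ z : V, nrm d n z = 0 → nrm d n (d • z) = 0 := fun z hz => by
      rw [← smul_nrm_comm (Commute.refl d), hz, smul_zero]
    have e1 : c • s • c • w = s • w := by rw [← mul_smul, ← mul_smul, hcsc]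
    have e2 : c • s • d • w = s • c • w := by
      have : c * s * d = s * c := by rw [← hcc, ← mul_assoc, hcsc]
      rw [← mul_smul, ← mul_smul, ← mul_smul, this]
    have e3 : c • c • w = d • w := by rw [← mul_smul, hcc]
    refine ⟨nrm d n v, smul_nrm hd v, s • c • w + w, ⟨?_, ?_⟩, s • d • w + c • w, ⟨?_, ?_⟩, ?_⟩
    · rw [nrm_add, hNs _ (hNc _ hNw), hNw, add_zero]
    · rw [smul_add, smul_add, e1, hs', add_comm]
    · rw [nrm_add, hNs _ (hNd _ hNw), hNc _ hNw, add_zero]
    · rw [smul_add, smul_add, e2, e3, hs', add_comm]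
    · rw [smul_add, hs']
      have e : nrm d n v + (s • c • w + w) + (d • w + s • c • w) =
          nrm d n v + (w + d • w) + (s • c • w + s • c • w) := by abel
      rw [e, h.two, add_zero, hw1, hv', add_comm v, ← add_assoc, h.two, zero_add]
  by_contra hne
  have hX0 : X ≠ ⊥ := by
    intro h0
    apply hne
    obtain ⟨a, ha, x, hx, y, hy, e⟩ := hsup v
    rw [h0, AddSubgroup.mem_bot] at hx hy
    rw [hx, hy, smul_zero, add_zero, add_zero] at e
    rw [e]
    exact ha
  have g1 : ∀ u ∈ U, ∀ a ∈ V0, u • a ∈ V0 := by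
    intro u hu a ha
    have ha' : d⁻¹ • a = a := by
      rw [inv_smul_eq_iff]
      exact (show d • a = a from ha).symm
    rcases hU u hu with h1 | ⟨u1, h1, rfl⟩
    · change d • u • a = u • a
      rw [← mul_smul, ← hc u h1, mul_smul, show d • a = a from ha]
    · change d • (s * u1) • a = (s * u1) • a
      have e : d * (s * u1) = s * u1 * d⁻¹ := by
        have e1 : d * s = s * d⁻¹ := by
          have : s * d⁻¹ = d * s := by
            have e3 : d * (s * d) * d⁻¹ = d * (d⁻¹ * s) * d⁻¹ := by rw [hsd]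
            rw [mul_inv_cancel_left] at e3
            rw [← e3]
            group
          exact this.symm
        have e2 : u1 * d⁻¹ = d⁻¹ * u1 := (show Commute u1 d from hc u1 h1).inv_right
        rw [← mul_assoc, e1, mul_assoc, mul_assoc, e2]
      rw [← mul_smul, e, mul_smul, ha']
  have g2 : ∀ u ∈ U1, ∀ x ∈ X, u • x ∈ X := by
    rintro u hu x ⟨hx1, hx2⟩
    refine ⟨?_, ?_⟩
    · rw [← smul_nrm_comm (hc u hu), hx1, smul_zero]
    · rw [← mul_smul, ← (hUc u hu).eq, mul_smul, hx2, h.ab u (hU1 hu) s hs]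
  have g3 : ∀ a ∈ V0, ∀ x ∈ X, ∀ y ∈ X, a + x + s • y = 0 → a = 0 ∧ x = 0 ∧ y = 0 := by
    rintro a ha x ⟨hx1, hx2⟩ y ⟨hy1, hy2⟩ he
    have h1 : nrm d n (a + x + s • y) = 0 := by rw [he]; simp [nrm]
    rw [nrm_add, nrm_add, hx1, ← smul_nrm_inv hd hsd, hy1, smul_zero, add_zero, add_zero,
      nrm_of_fixed h.two hn (show d • a = a from ha)] at h1
    rw [h1, zero_add, h.add_eq] at he
    have h2 : d • y = y := by
      have e1 : c • x = y := by rw [hx2, he, hs']
      have e2 : c • x = d • y := by rw [he, ← hy2, ← mul_smul, hcc]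
      rw [← e2, e1]
    have h3 : y = 0 := by rw [← nrm_of_fixed h.two hn h2, hy1]
    refine ⟨h1, ?_, h3⟩
    rw [he, h3, smul_zero]
  obtain ⟨x, hx⟩ := h.ind hs hU1 hU g1 g2 g3 hsup hX0
  obtain ⟨v, hv1, hv2⟩ := h4 x
  rcases hx v with h1 | h1
  · exact hv1 h1
  · exact hv2 h1

/-- **(1)** : `U` centralises every `U`-invariant subgroup of odd order. -/
theorem odd_comm [Finite H] [FaithfulSMul H V] (h4 : ∀ x, ∃ v, v ∉ E ∧ v + x ∉ E) {O : Subgroup H}
    (hO : Odd (Nat.card O)) (hn : ∀ u ∈ U, ∀ x ∈ O, u * x * u⁻¹ ∈ O) : O ≤ centralizer (U : Set H) := by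
  have sq : ∀ a ∈ U, a * a = 1 := fun a ha => FaithfulSMul.eq_of_smul_eq_smul (α := V) fun v => by
    rw [mul_smul, h.inv a ha, one_smul]
  have comm : ∀ a ∈ U, ∀ b ∈ U, a * b = b * a := fun a ha b hb =>
    FaithfulSMul.eq_of_smul_eq_smul (α := V) fun v => by rw [mul_smul, mul_smul, h.ab a ha b hb]
  refine odd_of_hyp sq comm hO hn ?_
  rintro B hB h2 x ⟨hx, hxB⟩
  rw [mem_centralizer_iff]
  intro a ha
  by_cases haB : a ∈ B
  · exact mem_centralizer_iff.1 hxB a haB
  have hU : ∀ u ∈ U, u ∈ B ∨ ∃ u1 ∈ B, u = a * u1 := by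
    intro u hu
    rw [relIndex_eq_two_iff] at h2
    obtain ⟨y, hy, h3⟩ := h2
    by_cases huB : u ∈ B
    · exact Or.inl huB
    · right
      have h5 : u * y ∈ B := by
        rcases h3 u hu with h6 | h6
        · exact h6.1
        · exact absurd h6.1 huB
      have h6 : a * y ∈ B := by
        rcases h3 a ha with h6 | h6
        · exact h6.1
        · exact absurd h6.1 haB
      refine ⟨a * u, ?_, by rw [← mul_assoc, sq a ha, one_mul]⟩
      have e : a * u = a * y * (u * y) := by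
        rw [comm u hu y hy, mul_assoc, ← mul_assoc y y u, sq y hy, one_mul]
      rw [e]
      exact B.mul_mem h6 h5
  have hai : a⁻¹ = a := inv_eq_of_mul_eq_one_right (sq a ha)
  have h5 : x⁻¹ * (a * x * a⁻¹) ∈ O := O.mul_mem (O.inv_mem hx) (hn a ha x hx)
  have h6 : (x⁻¹ * (a * x * a⁻¹)) ^ Nat.card O = 1 := by
    have h5 : (⟨_, h5⟩ : O) ^ Nat.card O = 1 := pow_card_eq_one'
    exact congrArg Subtype.val h5
  have h7 : x⁻¹ * (a * x * a⁻¹) = 1 := by
    refine FaithfulSMul.eq_of_smul_eq_smul (α := V) fun v => ?_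
    rw [one_smul]
    refine h.odd_inv h4 ha hB hU hO h6 ?_ ?_ v
    · rw [mul_inv_rev, mul_inv_rev, mul_inv_rev, inv_inv, inv_inv, hai]
      have : a * (x⁻¹ * (a * x * a)) = a * x⁻¹ * a * x * a := by group
      rw [this]
      group
    · intro u hu
      have c1 : Commute u x := mem_centralizer_iff.1 hxB u hu
      have c2 : Commute u a := comm u (hB hu) a ha
      exact (c1.inv_right.mul_right ((c2.mul_right c1).mul_right c2.inv_right)).eq
  rw [inv_mul_eq_one] at h7
  rw [← mul_inv_eq_iff_eq_mul]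
  exact h7.symm

end FlatA

end Cfsg.Agent.Omega.NO1.Comp

end

section


/-!
# THEOREM COMP (bb OMEGA #17539): the K-linear flat module, and step (3)

`KFlat act E F`: `K` a field, `U` a group of involutions acting `K`-linearly and faithfully on `V`,
`E ≥ F` subspaces, `F = C_V(U)`, `[V,U] ≤ E`, `[E,U] ≤ F`, `{[w,u]} + F = E` for all `w ∉ E`;
`a = |V/E| ≥ 4`, `e = |E/F| ≥ a²`, and (9) `|V/C_V(u)| ≤ e`.
-/

namespace Cfsg.Agent.Omega.NO1.Comp

open Module

/-- the `K`-linear flat module -/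
structure KFlat {K V U : Type*} [Field K] [AddCommGroup V] [Module K V] [Group U]
    (act : U →* Module.End K V) (E F : Submodule K V) : Prop where
  sq : ∀ u : U, u * u = 1
  faith : ∀ u, act u = 1 → u = 1
  fixF : ∀ v, v ∈ F ↔ ∀ u, act u v = v
  VE : ∀ u v, act u v - v ∈ E
  EF : ∀ u, ∀ e ∈ E, act u e - e ∈ F
  reg : ∀ w, w ∉ E → ∀ e ∈ E, ∃ u, e - (act u w - w) ∈ F
  four : 4 * Nat.card E ≤ Nat.card V
  pf : Nat.card V ^ 2 * Nat.card F ≤ Nat.card E ^ 3
  rk : ∀ u, Nat.card (LinearMap.range (act u - 1)) * Nat.card F ≤ Nat.card E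

namespace KFlat

variable {K V U : Type*} [Field K] [AddCommGroup V] [Module K V] [Group U]
  {act : U →* Module.End K V} {E F : Submodule K V}

theorem comm (h : KFlat act E F) (u v : U) : u * v = v * u := by
  have h1 := h.sq (u * v)
  have h2 := h.sq u
  have h3 := h.sq v
  have hu : u⁻¹ = u := inv_eq_of_mul_eq_one_left h2
  have hv : v⁻¹ = v := inv_eq_of_mul_eq_one_left h3
  calc u * v = (u * v)⁻¹ := (inv_eq_of_mul_eq_one_left h1).symm
    _ = v⁻¹ * u⁻¹ := mul_inv_rev u v
    _ = v * u := by rw [hu, hv]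

theorem act_act (h : KFlat act E F) (u : U) (v : V) : act u (act u v) = v := by
  rw [← Module.End.mul_apply, ← map_mul, h.sq u, map_one]; rfl

theorem act_comm (h : KFlat act E F) (u s : U) (v : V) : act u (act s v) = act s (act u v) := by
  rw [← Module.End.mul_apply, ← map_mul, h.comm u s, map_mul]; rfl

/-- `u ∈ N` -/
def Nn (act : U →* Module.End K V) (E : Submodule K V) (u : U) : Prop := ∀ e ∈ E, act u e = e

/-- FLAT (5): for every `w ∉ E`: `u ∈ N ↔ [w,u] ∈ F` -/
theorem nn_iff (h : KFlat act E F) {w : V} (hw : w ∉ E) (u : U) :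
    Nn act E u ↔ act u w - w ∈ F := by
  constructor
  · intro hu
    rw [h.fixF]
    intro s
    have h1 := hu _ (h.VE s w)
    simp only [map_sub] at h1 ⊢
    rw [h.act_comm s u]
    have : act u (act s w) - act s w = act u w - w := by
      have := h1
      rw [sub_eq_sub_iff_add_eq_add] at this ⊢
      rw [this]; abel
    exact this
  · intro hu e he
    obtain ⟨s, hs⟩ := h.reg w hw e he
    have h1 := (h.fixF _).1 hs u
    have h2 := (h.fixF _).1 hu s
    simp only [map_sub] at h1 h2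
    rw [h.act_comm s u] at h2
    -- act u e - (act u act s w - act u w) = e - (act s w - w)
    have h3 : act u (act s w) = act u w - w + act s w := by
      rw [sub_eq_iff_eq_add] at h2; exact h2
    rw [h3] at h1
    have h4 : act u e - (act u w - w + act s w - act u w) = act u e - (act s w - w) := by abel
    rw [h4] at h1
    exact sub_left_injective h1

/-- the operator `D = act r - 1` -/
theorem D_apply (r : U) (v : V) : (act r - 1) v = act r v - v := rfl

theorem ker_le (h : KFlat act E F) {r : U} (hr : ¬ Nn act E r) {v : V} (hv : act r v = v) :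
    v ∈ E := by
  by_contra hvE
  exact hr ((h.nn_iff hvE r).2 (by rw [hv, sub_self]; exact F.zero_mem))

variable (h : KFlat act E F)
include h

/-- (MR'1) -/
theorem mr_fix {r : U} (hr : ¬ Nn act E r) {v : V} : act r v - v ∈ F ↔ v ∈ E :=
  ⟨fun hv => by
    by_contra hvE
    exact hr ((h.nn_iff hvE r).2 hv), fun hv => h.EF r v hv⟩

/-- (MR'2), the inclusion `[m,U] ⊆ M ⊓ F` -/
theorem mr_mem {r : U} {m : V} (hm : m ∈ LinearMap.range (act r - 1)) (s : U) :
    act s m - m ∈ LinearMap.range (act r - 1) ⊓ F := by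
  obtain ⟨v, rfl⟩ := hm
  have e1 : act s ((act r - 1) v) - (act r - 1) v = (act r - 1) (act s v - v) := by
    simp only [D_apply, map_sub]
    rw [h.act_comm r s]
  rw [e1]
  exact ⟨⟨_, rfl⟩, h.EF r _ (h.VE s v)⟩

/-- (MR'2) -/
theorem mr {r : U} {m : V} (hm : m ∈ LinearMap.range (act r - 1))
    (hmF : m ∉ F) {m' : V} (hm' : m' ∈ LinearMap.range (act r - 1)) (hm'F : m' ∈ F)
    (hr : ¬ Nn act E r) : ∃ s, act s m - m = m' := by
  obtain ⟨v, rfl⟩ := hm
  obtain ⟨v', rfl⟩ := hm'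
  rw [D_apply, h.mr_fix hr] at hmF hm'F
  obtain ⟨s, hs⟩ := h.reg v hmF v' hm'F
  refine ⟨s, ?_⟩
  have e1 : act s ((act r - 1) v) - (act r - 1) v = (act r - 1) (act s v - v) := by
    simp only [D_apply, map_sub]
    rw [h.act_comm r s]
  rw [e1]
  have h1 := (h.fixF _).1 hs r
  have h2 : (act r - 1) (v' - (act s v - v)) = 0 := by rw [D_apply, h1, sub_self]
  rw [map_sub, sub_eq_zero] at h2
  exact h2.symm

/-- (MR'4) -/
theorem mr_ne {r : U} (hr : ¬ Nn act E r) :
    ∃ m ∈ LinearMap.range (act r - 1), m ∈ F ∧ m ≠ 0 := by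
  unfold Nn at hr
  push Not at hr
  obtain ⟨e, he, hne⟩ := hr
  exact ⟨(act r - 1) e, ⟨e, rfl⟩, h.EF r e he, sub_ne_zero.2 hne⟩

/-- (MR'3) `|M/M^U| = |V/E|` -/
theorem mr_card [Finite V] {r : U} (hr : ¬ Nn act E r) :
    Nat.card (LinearMap.range (act r - 1)) * Nat.card E =
      Nat.card V * Nat.card (LinearMap.range (act r - 1) ⊓ F : Submodule K V) := by
  classical
  set D := act r - 1 with hD
  -- `|V| = |range D| |ker D|`
  have h1 : Nat.card V = Nat.card (LinearMap.range D) * Nat.card (LinearMap.ker D) := by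
    have := Submodule.card_eq_card_quotient_mul_card (LinearMap.ker D)
    rw [this, mul_comm, Nat.card_congr D.quotKerEquivRange.toEquiv]
  -- `|E| = |D E| |ker D|`
  have h2 : Nat.card E = Nat.card (LinearMap.range D ⊓ F : Submodule K V) *
      Nat.card (LinearMap.ker D) := by
    have h3 := Submodule.card_eq_card_quotient_mul_card (LinearMap.ker (D.domRestrict E))
    rw [Nat.card_congr (D.domRestrict E).quotKerEquivRange.toEquiv] at h3
    have h4 : LinearMap.range (D.domRestrict E) = LinearMap.range D ⊓ F := by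
      ext m
      constructor
      · rintro ⟨⟨e, he⟩, rfl⟩
        exact ⟨⟨e, rfl⟩, h.EF r e he⟩
      · rintro ⟨⟨v, rfl⟩, hv⟩
        have : v ∈ E := (h.mr_fix hr).1 hv
        exact ⟨⟨v, this⟩, rfl⟩
    rw [h4] at h3
    have h5 : Nat.card (LinearMap.ker (D.domRestrict E)) = Nat.card (LinearMap.ker D) := by
      refine Nat.card_congr ⟨fun x => ⟨x.1.1, x.2⟩, fun y => ⟨⟨y.1, h.ker_le hr ?_⟩, y.2⟩, ?_, ?_⟩
      · have := LinearMap.mem_ker.1 y.2
        exact sub_eq_zero.1 this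
      · intro x; rfl
      · intro x; rfl
    rw [h5] at h3
    rw [h3, mul_comm]
  rw [h1, h2]; ring

omit h

theorem congr {V' : Type*} [AddCommGroup V'] [Module K V'] (φ : V ≃ₗ[K] V')
    {act' : U →* Module.End K V'} (h : KFlat act E F) (ha : ∀ u v, act' u (φ v) = φ (act u v)) :
    KFlat act' (E.map φ.toLinearMap) (F.map φ.toLinearMap) := by
  have hm : ∀ (S : Submodule K V) (v : V), φ v ∈ S.map φ.toLinearMap ↔ v ∈ S := by
    intro S v
    constructor
    · rintro ⟨w, hw, hwv⟩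
      rwa [← φ.injective hwv]
    · intro hv; exact ⟨v, hv, rfl⟩
  have hc : ∀ (S : Submodule K V), Nat.card (S.map φ.toLinearMap) = Nat.card S := fun S =>
    (Nat.card_congr (φ.submoduleMap S).toEquiv).symm
  have hV : Nat.card V' = Nat.card V := (Nat.card_congr φ.toEquiv).symm
  refine ⟨h.sq, ?_, ?_, ?_, ?_, ?_, ?_, ?_, ?_⟩
  · intro u hu
    refine h.faith u ?_
    ext v
    apply φ.injective
    rw [← ha, hu]; rfl
  · intro v
    obtain ⟨v, rfl⟩ := φ.surjective v
    rw [hm, h.fixF]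
    refine forall_congr' fun u => ?_
    rw [ha]
    exact φ.injective.eq_iff.symm
  · intro u v
    obtain ⟨v, rfl⟩ := φ.surjective v
    rw [ha, ← map_sub, hm]; exact h.VE u v
  · intro u v hv
    obtain ⟨v, rfl⟩ := φ.surjective v
    rw [hm] at hv
    rw [ha, ← map_sub, hm]; exact h.EF u v hv
  · intro w hw e he
    obtain ⟨w, rfl⟩ := φ.surjective w
    obtain ⟨e, rfl⟩ := φ.surjective e
    rw [hm] at hw he
    obtain ⟨u, hu⟩ := h.reg w hw e he
    exact ⟨u, by rw [ha, ← map_sub, ← map_sub, hm]; exact hu⟩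
  · rw [hc, hV]; exact h.four
  · rw [hc, hc, hV]; exact h.pf
  · intro u
    rw [hc, hc]
    have : LinearMap.range (act' u - 1) = (LinearMap.range (act u - 1)).map φ.toLinearMap := by
      ext y
      constructor
      · rintro ⟨x, rfl⟩
        obtain ⟨x, rfl⟩ := φ.surjective x
        refine ⟨(act u - 1) x, ⟨x, rfl⟩, ?_⟩
        simp only [D_apply, ha]
        exact map_sub φ _ _
      · rintro ⟨_, ⟨x, rfl⟩, rfl⟩
        refine ⟨φ x, ?_⟩
        simp only [D_apply, ha]
        exact (map_sub φ _ _).symm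
    rw [this, hc]
    exact h.rk u

end KFlat

end Cfsg.Agent.Omega.NO1.Comp

end

section


/-!
# THEOREM COMP (bb OMEGA #17539), step (2): `U` is `K`-linear

* `ringAut_eq` : a finite field of characteristic 2 has at most one automorphism of order 2;
* `FlatA.lin` **(2)** : if `U` acts semilinearly on the `K`-space `V`, then it acts linearly;
* `FlatA.smul_E`, `FlatA.smul_F`, `FlatA.EK`, `FlatA.FK` : `E` and `F` are `K`-subspaces;
* `actK` : `U →* Module.End K V`; `FlatA.kflat` : the structure `KFlat`.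
-/

set_option autoImplicit false

namespace Cfsg.Agent.Omega.NO1.Comp

open Subgroup

universe u v w

/-- two automorphisms of order 2 of a finite field of characteristic 2 coincide -/
theorem ringAut_eq {K : Type w} [Field K] [Finite K] [CharP K 2] {σ τ : K ≃+* K} (hσ : ∀ x, σ (σ x) = x)
    (hτ : ∀ x, τ (τ x) = x) (h1 : ∃ x, σ x ≠ x) (h2 : ∃ x, τ x ≠ x) (x : K) : σ x = τ x := by
  classical
  let _ := ZMod.algebra K 2
  have key : ∀ ρ : K ≃+* K, ∀ r : ZMod 2, ρ (algebraMap (ZMod 2) K r) = algebraMap (ZMod 2) K r := fun ρ r =>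
    RingHom.congr_fun (Subsingleton.elim ((ρ : K →+* K).comp (algebraMap (ZMod 2) K)) (algebraMap (ZMod 2) K)) r
  let f : (K ≃+* K) → (K ≃ₐ[ZMod 2] K) := fun ρ => AlgEquiv.ofRingEquiv (f := ρ) (key ρ)
  have hf : ∀ ρ : K ≃+* K, (∀ x, ρ (ρ x) = x) → f ρ ^ 2 = 1 := by
    intro ρ hρ
    ext x
    rw [pow_two]
    exact hρ x
  by_contra hne
  have hne' : f σ ≠ f τ := fun h => hne (DFunLike.congr_fun h x)
  have hs1 : f σ ≠ 1 := by
    intro h
    obtain ⟨y, hy⟩ := h1
    exact hy (DFunLike.congr_fun h y)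
  have ht1 : f τ ≠ 1 := by
    intro h
    obtain ⟨y, hy⟩ := h2
    exact hy (DFunLike.congr_fun h y)
  let _ : Fintype (K ≃ₐ[ZMod 2] K) := Fintype.ofFinite _
  have hc := IsCyclic.card_pow_eq_one_le (α := K ≃ₐ[ZMod 2] K) (n := 2) two_pos
  have hsub : ({1, f σ, f τ} : Finset (K ≃ₐ[ZMod 2] K)) ⊆ Finset.univ.filter fun a => a ^ 2 = 1 := by
    intro a ha
    rw [Finset.mem_filter]
    refine ⟨Finset.mem_univ _, ?_⟩
    rw [Finset.mem_insert, Finset.mem_insert, Finset.mem_singleton] at ha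
    rcases ha with rfl | rfl | rfl
    · exact one_pow 2
    · exact hf σ hσ
    · exact hf τ hτ
  have h3 := Finset.card_le_card hsub
  rw [Finset.card_insert_of_notMem, Finset.card_insert_of_notMem, Finset.card_singleton] at h3
  · exact absurd (h3.trans hc) (by norm_num)
  · rwa [Finset.mem_singleton]
  · rw [Finset.mem_insert, Finset.mem_singleton, not_or]
    exact ⟨hs1.symm, ht1.symm⟩

variable {H : Type u} [Group H] {V : Type v} [AddCommGroup V] [DistribMulAction H V] {K : Type w} [Field K]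
  [Module K V]

namespace FlatA

variable {U : Subgroup H} {E F : AddSubgroup V} (h : FlatA U E F)
include h

omit [Field K] [Module K V] in
theorem exists_ne_zero : ∃ v : V, v ≠ 0 := by
  obtain ⟨w, hw⟩ := h.ne'
  exact ⟨w, fun h0 => hw (h0 ▸ E.zero_mem)⟩

variable (K) in
theorem charP : CharP K 2 := by
  obtain ⟨v, hv⟩ := h.exists_ne_zero
  refine CharTwo.of_one_ne_zero_of_two_eq_zero one_ne_zero ?_
  have h1 : (2 : K) • v = 0 := by rw [two_smul, h.two]
  exact (smul_eq_zero.1 h1).resolve_right hv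

/-- **(2)** : if `U` acts semilinearly on the `K`-space `V`, `K` a finite field, then `U` is `K`-linear. -/
theorem lin [Finite K] (h4 : ∀ x, ∃ v, v ∉ E ∧ v + x ∉ E)
    (hσ : ∀ u ∈ U, ∃ σ : K ≃+* K, ∀ (k : K) (v : V), u • k • v = σ k • u • v) :
    ∀ u ∈ U, ∀ (k : K) (v : V), u • k • v = k • u • v := by
  have := h.charP K
  obtain ⟨v0, hv0⟩ := h.exists_ne_zero
  have hcan : ∀ a b : K, a • v0 = b • v0 → a = b := by
    intro a b hab
    have : (a - b) • v0 = 0 := by rw [sub_smul, hab, sub_self]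
    exact sub_eq_zero.1 ((smul_eq_zero.1 this).resolve_right hv0)
  by_contra hcon
  push Not at hcon
  obtain ⟨s, hs, k0, v1, hk0⟩ := hcon
  -- automorphisms
  have hinv : ∀ u ∈ U, ∀ σ : K ≃+* K, (∀ (k : K) (v : V), u • k • v = σ k • u • v) → ∀ k, σ (σ k) = k := by
    intro u hu σ hσ k
    apply hcan
    have h1 := h.inv u hu (k • v0)
    rw [hσ, hσ, h.inv u hu] at h1
    exact h1
  obtain ⟨σ, hσs⟩ := hσ s hs
  have hσ2 := hinv s hs σ hσs
  have hσ0 : σ k0 ≠ k0 := by
    intro h0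
    apply hk0
    rw [hσs, h0]
  let U1 : Subgroup H :=
    { carrier := {u | u ∈ U ∧ ∀ (k : K) (v : V), u • k • v = k • u • v}
      one_mem' := ⟨U.one_mem, fun k v => by rw [one_smul, one_smul]⟩
      mul_mem' := by
        rintro a b ⟨ha, ha'⟩ ⟨hb, hb'⟩
        exact ⟨U.mul_mem ha hb, fun k v => by rw [mul_smul, hb', ha', mul_smul]⟩
      inv_mem' := by
        rintro a ⟨ha, ha'⟩
        exact ⟨U.inv_mem ha, fun k v => by rw [inv_smul_eq_iff, ha', smul_inv_smul]⟩ }
  have hU1 : U1 ≤ U := fun u hu => hu.1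
  have hU : ∀ u ∈ U, u ∈ U1 ∨ ∃ u1 ∈ U1, u = s * u1 := by
    intro u hu
    by_cases h1 : u ∈ U1
    · exact Or.inl h1
    right
    refine ⟨s⁻¹ * u, ⟨U.mul_mem (U.inv_mem hs) hu, ?_⟩, by rw [mul_inv_cancel_left]⟩
    obtain ⟨τ, hτ⟩ := hσ u hu
    have hτ2 := hinv u hu τ hτ
    have hτ0 : ∃ x, τ x ≠ x := by
      by_contra hc
      push Not at hc
      exact h1 ⟨hu, fun k v => by rw [hτ, hc]⟩
    have hst := ringAut_eq hσ2 hτ2 ⟨k0, hσ0⟩ hτ0
    intro k v
    rw [mul_smul, mul_smul, inv_smul_eq_iff, hσs, smul_inv_smul, hτ, hst]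
  let X : AddSubgroup V :=
    { carrier := {v | ∃ c, s • c = c ∧ v = k0 • c}
      zero_mem' := ⟨0, smul_zero s, (smul_zero k0).symm⟩
      add_mem' := by
        rintro _ _ ⟨c, hc, rfl⟩ ⟨c', hc', rfl⟩
        exact ⟨c + c', by rw [smul_add, hc, hc'], by rw [smul_add]⟩
      neg_mem' := by
        rintro _ ⟨c, hc, rfl⟩
        exact ⟨-c, by rw [smul_neg, hc], by rw [smul_neg]⟩ }
  have hss : ∀ v : V, s • s • v = v := h.inv s hs
  set l := k0 with hl
  set l' := σ k0 with hl'
  have hl2 : σ l' = l := hσ2 k0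
  have hδ : (l + l') * (l + l') ≠ 0 := by
    intro h0
    have h1 : l + l' = 0 := mul_self_eq_zero.1 h0
    exact hσ0 (CharTwo.add_eq_zero.1 h1).symm
  have hδ' : l * l + l' * l' ≠ 0 := by
    intro h0
    apply hδ
    have : (l + l') * (l + l') = l * l + l' * l' + (l * l' + l * l') := by ring
    rw [this, h0, CharTwo.add_self_eq_zero, add_zero]
  have g1 : ∀ u ∈ U, ∀ a ∈ (⊥ : AddSubgroup V), u • a ∈ (⊥ : AddSubgroup V) := by
    intro u _ a ha
    rw [AddSubgroup.mem_bot] at ha ⊢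
    rw [ha, smul_zero]
  have g2 : ∀ u ∈ U1, ∀ x ∈ X, u • x ∈ X := by
    rintro u ⟨hu, hu'⟩ _ ⟨c, hc, rfl⟩
    exact ⟨u • c, by rw [h.ab s hs u hu, hc], hu' _ _⟩
  have g3 : ∀ a ∈ (⊥ : AddSubgroup V), ∀ x ∈ X, ∀ y ∈ X, a + x + s • y = 0 → a = 0 ∧ x = 0 ∧ y = 0 := by
    rintro a ha _ ⟨c, hc, rfl⟩ _ ⟨c', hc', rfl⟩ he
    rw [AddSubgroup.mem_bot] at ha
    subst ha
    rw [zero_add, hσs, hc', ← hl', ← hl] at he
    have he' : l' • c + l • c' = 0 := by
      have h1 := congrArg (s • ·) he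
      simp only [smul_add, smul_zero] at h1
      rw [hσs, hσs, hc, hc', hl2] at h1
      exact h1
    have hc0 : c = 0 := by
      have h1 : (l * l + l' * l') • c = l • (l • c + l' • c') + l' • (l' • c + l • c') +
          ((-(l * l')) • c' + (-(l * l')) • c') := by module
      rw [he, he', smul_zero, smul_zero, add_zero, zero_add, h.two] at h1
      exact (smul_eq_zero.1 h1).resolve_left hδ'
    subst hc0
    have hc0' : c' = 0 := by
      rw [smul_zero, zero_add] at he he'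
      by_contra hne
      have h1 := (smul_eq_zero.1 he).resolve_right hne
      have h2 := (smul_eq_zero.1 he').resolve_right hne
      apply hδ'
      rw [h1, h2, mul_zero, add_zero]
    subst hc0'
    exact ⟨rfl, smul_zero _, smul_zero _⟩
  have g4 : ∀ v : V, ∃ a ∈ (⊥ : AddSubgroup V), ∃ x ∈ X, ∃ y ∈ X, v = a + x + s • y := by
    intro v
    set δ := l * l + l' * l' with hδd
    have hσδ : σ δ⁻¹ = δ⁻¹ := by
      rw [map_inv₀, hδd, map_add, map_mul, map_mul, hl2, ← hl', add_comm]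
    have c1 : s • (δ⁻¹ • (l • v + l' • s • v)) = δ⁻¹ • (l • v + l' • s • v) := by
      rw [hσs, hσδ, smul_add, hσs, hσs, hss, hl2, ← hl', add_comm]
    have c2 : s • (δ⁻¹ • (l' • v + l • s • v)) = δ⁻¹ • (l' • v + l • s • v) := by
      rw [hσs, hσδ, smul_add, hσs, hσs, hss, hl2, ← hl', add_comm]
    refine ⟨0, AddSubgroup.zero_mem _, l • (δ⁻¹ • (l • v + l' • s • v)), ⟨_, c1, rfl⟩,
      l • (δ⁻¹ • (l' • v + l • s • v)), ⟨_, c2, rfl⟩, ?_⟩
    rw [zero_add, hσs, c2, ← hl']
    have e : ∀ z : V, l • (δ⁻¹ • (l • v + l' • z)) + l' • (δ⁻¹ • (l' • v + l • z)) =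
        (δ⁻¹ * (l * l + l' * l')) • v + ((δ⁻¹ * (l * l')) • z + (δ⁻¹ * (l * l')) • z) := fun z => by module
    rw [e, h.two, add_zero, ← hδd, inv_mul_cancel₀ hδ', one_smul]
  have hX0 : X ≠ ⊥ := by
    intro h0
    apply hv0
    obtain ⟨a, ha, x, hx, y, hy, e⟩ := g4 v0
    rw [h0, AddSubgroup.mem_bot] at hx hy
    rw [AddSubgroup.mem_bot] at ha
    rw [e, ha, hx, hy, smul_zero, add_zero, add_zero]
  obtain ⟨x, hx⟩ := h.ind hs hU1 hU g1 g2 g3 g4 hX0
  obtain ⟨v, hv1, hv2⟩ := h4 x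
  rcases hx v with h1 | h1
  · exact hv1 h1
  · exact hv2 h1

theorem smul_F (hl : ∀ u ∈ U, ∀ (k : K) (v : V), u • k • v = k • u • v) (k : K) {v : V} (hv : v ∈ F) :
    k • v ∈ F := by
  rw [h.F_iff]
  intro u hu
  rw [hl u hu, h.fix hv hu]

theorem smul_E (hl : ∀ u ∈ U, ∀ (k : K) (v : V), u • k • v = k • u • v) (k : K) {v : V} (hv : v ∈ E) :
    k • v ∈ E := by
  refine h.mem_E fun u hu => ?_
  rw [hl u hu, ← smul_add]
  exact h.smul_F hl k (h.EF u hu v hv)

/-- `E` as a `K`-subspace -/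
def EK (hl : ∀ u ∈ U, ∀ (k : K) (v : V), u • k • v = k • u • v) : Submodule K V :=
  { E with smul_mem' := fun k _ hv => h.smul_E hl k hv }

/-- `F` as a `K`-subspace -/
def FK (hl : ∀ u ∈ U, ∀ (k : K) (v : V), u • k • v = k • u • v) : Submodule K V :=
  { F with smul_mem' := fun k _ hv => h.smul_F hl k hv }

theorem mem_EK {hl : ∀ u ∈ U, ∀ (k : K) (v : V), u • k • v = k • u • v} {v : V} : v ∈ h.EK hl ↔ v ∈ E := Iff.rfl

theorem mem_FK {hl : ∀ u ∈ U, ∀ (k : K) (v : V), u • k • v = k • u • v} {v : V} : v ∈ h.FK hl ↔ v ∈ F := Iff.rfl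

end FlatA

/-- the `K`-linear action of `U` on `V` -/
def actK {U : Subgroup H} (hl : ∀ u ∈ U, ∀ (k : K) (v : V), u • k • v = k • u • v) : U →* Module.End K V where
  toFun u :=
    { toFun := fun v => (u : H) • v
      map_add' := smul_add (u : H)
      map_smul' := fun k v => hl u u.2 k v }
  map_one' := by
    ext v
    exact one_smul H v
  map_mul' := fun a b => by
    ext v
    exact mul_smul (a : H) (b : H) v

theorem actK_apply {U : Subgroup H} (hl : ∀ u ∈ U, ∀ (k : K) (v : V), u • k • v = k • u • v) (u : U) (v : V) :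
    actK hl u v = (u : H) • v := rfl

/-- the structure `KFlat` of (3)-(5) -/
theorem FlatA.kflat [FaithfulSMul H V] {U : Subgroup H} {E F : AddSubgroup V} (h : FlatA U E F)
    (hl : ∀ u ∈ U, ∀ (k : K) (v : V), u • k • v = k • u • v)
    (four : 4 * Nat.card E ≤ Nat.card V) (pf : Nat.card V ^ 2 * Nat.card F ≤ Nat.card E ^ 3)
    (rk : ∀ u ∈ U, Nat.card {v : V | ∃ w, v = u • w - w} * Nat.card F ≤ Nat.card E) :
    KFlat (actK hl) (h.EK hl) (h.FK hl) where
  sq u := Subtype.ext <| FaithfulSMul.eq_of_smul_eq_smul (α := V) fun v => by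
    change ((u : H) * u) • v = (1 : H) • v
    rw [mul_smul, h.inv u u.2, one_smul]
  faith u hu := Subtype.ext <| FaithfulSMul.eq_of_smul_eq_smul (α := V) fun v => by
    have h1 := LinearMap.congr_fun hu v
    rw [actK_apply] at h1
    rw [h1]
    exact (one_smul H v).symm
  fixF v := by
    rw [h.mem_FK, h.F_iff]
    exact ⟨fun h1 u => h1 u u.2, fun h1 u hu => h1 ⟨u, hu⟩⟩
  VE u v := by
    rw [h.mem_EK, actK_apply, sub_eq_add_neg, h.neg]
    exact h.VE u u.2 v
  EF u e he := by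
    rw [h.mem_FK, actK_apply, sub_eq_add_neg, h.neg]
    exact h.EF u u.2 e he
  reg w hw e he := by
    obtain ⟨u, hu, h1⟩ := h.reg w hw e he
    refine ⟨⟨u, hu⟩, ?_⟩
    rw [h.mem_FK, actK_apply]
    have e1 : e - (u • w - w) = u • w + w + e := by
      rw [sub_eq_add_neg, sub_eq_add_neg, h.neg, h.neg, add_comm]
    rw [e1]
    exact h1
  four := four
  pf := pf
  rk u := by
    have e : Nat.card (LinearMap.range (actK hl u - 1)) = Nat.card {v : V | ∃ w, v = (u : H) • w - w} := by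
      refine Nat.card_congr (Equiv.setCongr ?_)
      ext v
      constructor
      · rintro ⟨w, hw⟩
        exact ⟨w, hw.symm⟩
      · rintro ⟨w, hw⟩
        exact ⟨w, hw.symm⟩
    rw [e]
    exact rk u u.2

/-- `4 |E| ≤ |V|` -/
theorem four_of_card {E : AddSubgroup V} [Finite V] (four : 4 * Nat.card E ≤ Nat.card V) (x : V) :
    ∃ v, v ∉ E ∧ v + x ∉ E := by
  by_contra hcon
  push Not at hcon
  have h1 : E.index ≤ 2 := by
    have h2 : Function.Surjective (fun b : Bool => (if b then (0 : V ⧸ E) else ((-x : V) : V ⧸ E))) := by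
      intro q
      induction q using QuotientAddGroup.induction_on with
      | H v =>
        by_cases hv : v ∈ E
        · exact ⟨true, by simpa using ((QuotientAddGroup.eq_zero_iff v).2 hv).symm⟩
        · refine ⟨false, ?_⟩
          have h3 := hcon v hv
          simp only [Bool.false_eq_true, if_false]
          rw [QuotientAddGroup.eq, neg_neg, add_comm]
          exact h3
    have h3 := Nat.card_le_card_of_surjective _ h2
    rw [Nat.card_eq_fintype_card (α := Bool), Fintype.card_bool] at h3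
    exact h3
  have h2 := AddSubgroup.card_mul_index E
  have h3 : 0 < Nat.card E := Nat.card_pos
  nlinarith

end Cfsg.Agent.Omega.NO1.Comp

end

section


/-!
# Pure tensors (project OMEGA, N1, THEOREM COMP #17539, part (II)(b); helper168)

`K` a field, `A ⊗[K] B → A' ⊗[K] B'` an additive bijection `s`, semilinear with respect to `σ`, which intertwines
the maps `ρ i ⊗ 1` and `ρ' i ⊗ 1` (`i` in any index type), where `A`, `A'` are irreducible under the `ρ i`, `ρ' i` and
only scalars commute with all `ρ' i`.  Then `s = α ⊗ β` (`pure`).  `K` finite of characteristic 2: a linear involution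
which is a pure tensor is the tensor product of two uniquely determined involutions (`invol`, `invol_unique`), and an
abelian group of such involutions acts through two homomorphisms (`exists_hom`).
-/

set_option autoImplicit false
set_option linter.unusedSectionVars false

namespace Cfsg.Agent.Omega.NO1.Comp.Pure

open TensorProduct

section contract

variable {K : Type*} [Field K] {A B : Type*} [AddCommGroup A] [Module K A] [AddCommGroup B] [Module K B]

/-- contraction of the right factor with a functional -/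
noncomputable def con (φ : B →ₗ[K] K) : A ⊗[K] B →ₗ[K] A :=
  (TensorProduct.rid K A).toLinearMap ∘ₗ φ.lTensor A

/-- contraction of the left factor with a functional -/
noncomputable def con' (φ : A →ₗ[K] K) : A ⊗[K] B →ₗ[K] B :=
  (TensorProduct.lid K B).toLinearMap ∘ₗ φ.rTensor B

@[simp] theorem con_tmul (φ : B →ₗ[K] K) (a : A) (b : B) : con φ (a ⊗ₜ[K] b) = φ b • a := by
  simp [con]

@[simp] theorem con'_tmul (φ : A →ₗ[K] K) (a : A) (b : B) : con' φ (a ⊗ₜ[K] b) = φ a • b := by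
  simp [con']

theorem exists_dual {x : A} (hx : x ≠ 0) : ∃ φ : A →ₗ[K] K, φ x = 1 := by
  have h : ¬ ∀ φ : Module.Dual K A, φ x = 0 := fun h => hx ((Module.forall_dual_apply_eq_zero_iff K x).1 h)
  push Not at h
  obtain ⟨φ, hφ⟩ := h
  exact ⟨(φ x)⁻¹ • φ, by simp [hφ]⟩

theorem eq_sum {ι : Type*} [Fintype ι] (bs : Module.Basis ι K B) (x : A ⊗[K] B) :
    x = ∑ j, con (bs.coord j) x ⊗ₜ[K] bs j := by
  classical
  induction x with
  | zero => simp
  | tmul a b =>
    have h : ∀ j, con (bs.coord j) (a ⊗ₜ[K] b) ⊗ₜ[K] bs j = a ⊗ₜ[K] (bs.coord j b • bs j) := fun j => by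
      rw [con_tmul, TensorProduct.smul_tmul]
    simp_rw [h, ← TensorProduct.tmul_sum]
    congr 1
    exact (bs.sum_repr b).symm
  | add x y hx hy =>
    conv_lhs => rw [hx, hy]
    rw [← Finset.sum_add_distrib]
    refine Finset.sum_congr rfl fun j _ => ?_
    rw [map_add, TensorProduct.add_tmul]

theorem exists_con [FiniteDimensional K B] {x : A ⊗[K] B} (hx : x ≠ 0) : ∃ φ : B →ₗ[K] K, con φ x ≠ 0 := by
  by_contra! h
  exact hx (by rw [eq_sum (Module.finBasis K B) x]; simp [h])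

theorem tmul_ne_zero {a : A} {b : B} (ha : a ≠ 0) (hb : b ≠ 0) : a ⊗ₜ[K] b ≠ 0 := by
  intro h
  obtain ⟨φ, hφ⟩ := exists_dual (K := K) hb
  have := congrArg (con φ) h
  rw [con_tmul, hφ, one_smul, map_zero] at this
  exact ha this

theorem con_rTensor {A' : Type*} [AddCommGroup A'] [Module K A'] (f : A →ₗ[K] A') (φ : B →ₗ[K] K)
    (x : A ⊗[K] B) : con φ (f.rTensor B x) = f (con φ x) := by
  induction x with
  | zero => simp
  | tmul a b => simp
  | add x y hx hy => simp [hx, hy]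

end contract

section pure

variable {K : Type*} [Field K] {A B A' B' : Type*} [AddCommGroup A] [Module K A] [AddCommGroup B] [Module K B]
  [AddCommGroup A'] [Module K A'] [AddCommGroup B'] [Module K B'] [FiniteDimensional K B']
  {I : Type*}

/-- **`s = α ⊗ β`.** -/
theorem pure [Nontrivial A] [Nontrivial B] (σ : K ≃+* K) (s : A ⊗[K] B ≃+ A' ⊗[K] B')
    (hs : ∀ (k : K) (x), s (k • x) = σ k • s x)
    (ρ : I → A →ₗ[K] A) (ρ' : I → A' →ₗ[K] A')
    (hi : ∀ i x, s ((ρ i).rTensor B x) = (ρ' i).rTensor B' (s x))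
    (irr : ∀ N : Submodule K A, (∀ i, ∀ a ∈ N, ρ i a ∈ N) → N = ⊥ ∨ N = ⊤)
    (irr' : ∀ N : Submodule K A', (∀ i, ∀ a ∈ N, ρ' i a ∈ N) → N = ⊥ ∨ N = ⊤)
    (sc : ∀ f : A' →ₗ[K] A', (∀ i x, f (ρ' i x) = ρ' i (f x)) → ∃ k : K, ∀ x, f x = k • x) :
    ∃ (α : A ≃+ A') (β : B ≃+ B'), (∀ (k : K) (a), α (k • a) = σ k • α a) ∧
      (∀ (k : K) (b), β (k • b) = σ k • β b) ∧ (∀ a b, s (a ⊗ₜ b) = α a ⊗ₜ β b) ∧
      ∀ i a, α (ρ i a) = ρ' i (α a) := by
  classical
  obtain ⟨a₀, ha₀⟩ := exists_ne (0 : A)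
  obtain ⟨b₀, hb₀⟩ := exists_ne (0 : B)
  have h0 : s (a₀ ⊗ₜ[K] b₀) ≠ 0 := fun h => tmul_ne_zero ha₀ hb₀ (s.injective (by rw [h, map_zero]))
  obtain ⟨φ, hφ⟩ := exists_con h0
  -- the map α
  let α₀ : A →+ A' :=
    { toFun := fun a => con φ (s (a ⊗ₜ[K] b₀))
      map_zero' := by simp
      map_add' := fun a b => by rw [TensorProduct.add_tmul, map_add, map_add] }
  have hα : ∀ (k : K) (a : A), α₀ (k • a) = σ k • α₀ a := fun k a => by
    change con φ (s ((k • a) ⊗ₜ[K] b₀)) = σ k • con φ (s (a ⊗ₜ[K] b₀))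
    rw [← TensorProduct.smul_tmul', hs, map_smul]
  have hαi : ∀ i a, α₀ (ρ i a) = ρ' i (α₀ a) := fun i a => by
    change con φ (s (ρ i a ⊗ₜ[K] b₀)) = ρ' i (con φ (s (a ⊗ₜ[K] b₀)))
    rw [← con_rTensor, ← hi]
    simp
  have hinj : Function.Injective α₀ := by
    let N : Submodule K A :=
      { carrier := {a | α₀ a = 0}
        zero_mem' := map_zero _
        add_mem' := fun {a b} ha hb => by
          exact (map_add α₀ a b).trans (by rw [show α₀ a = 0 from ha, show α₀ b = 0 from hb, add_zero])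
        smul_mem' := fun k a ha => by
          exact (hα k a).trans (by rw [show α₀ a = 0 from ha, smul_zero]) }
    have hN : ∀ a, a ∈ N ↔ α₀ a = 0 := fun a => Iff.rfl
    rcases irr N (fun i a ha => by rw [hN] at *; rw [hαi, ha, map_zero]) with h | h
    · rw [injective_iff_map_eq_zero]
      intro a ha
      have : a ∈ N := ha
      rw [h] at this
      exact this
    · exact absurd (show a₀ ∈ N by rw [h]; trivial) hφ
  have hsurj : Function.Surjective α₀ := by
    let N : Submodule K A' :=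
      { carrier := Set.range α₀
        zero_mem' := ⟨0, map_zero _⟩
        add_mem' := by
          rintro _ _ ⟨a, rfl⟩ ⟨b, rfl⟩; exact ⟨a + b, map_add _ _ _⟩
        smul_mem' := by
          rintro k _ ⟨a, rfl⟩
          exact ⟨σ.symm k • a, by rw [hα, σ.apply_symm_apply]⟩ }
    have hN : ∀ a, a ∈ N ↔ ∃ c, α₀ c = a := fun a => Iff.rfl
    rcases irr' N (fun i a ha => by
      rw [hN] at *; obtain ⟨c, rfl⟩ := ha; exact ⟨ρ i c, hαi i c⟩) with h | h
    · exact absurd (show α₀ a₀ = 0 from by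
        have : α₀ a₀ ∈ N := ⟨a₀, rfl⟩
        rw [h] at this
        exact this) hφ
    · intro a
      have : a ∈ N := by rw [h]; trivial
      exact this
  let α : A ≃+ A' := AddEquiv.ofBijective α₀ ⟨hinj, hsurj⟩
  have hαa : ∀ a, α a = α₀ a := fun a => rfl
  have hαk : ∀ (k : K) (a : A), α (k • a) = σ k • α a := hα
  have hαs : ∀ (k : K) (a : A'), α.symm (k • a) = σ.symm k • α.symm a := fun k a => by
    apply α.injective
    rw [α.apply_symm_apply, hαk, σ.apply_symm_apply, α.apply_symm_apply]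
  have hαI : ∀ i a, α (ρ i a) = ρ' i (α a) := hαi
  have hαsi : ∀ i a, α.symm (ρ' i a) = ρ i (α.symm a) := fun i a => by
    apply α.injective
    rw [α.apply_symm_apply, hαI, α.apply_symm_apply]
  -- the scalars
  have key : ∀ (ψ : B' →ₗ[K] K) (b : B), ∃ k : K, ∀ a : A, con ψ (s (a ⊗ₜ[K] b)) = k • α a := by
    intro ψ b
    let f : A' →ₗ[K] A' :=
      { toFun := fun a => con ψ (s (α.symm a ⊗ₜ[K] b))
        map_add' := fun a c => by rw [map_add, TensorProduct.add_tmul, map_add, map_add]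
        map_smul' := fun k a => by
          rw [hαs, ← TensorProduct.smul_tmul', hs, map_smul, σ.apply_symm_apply, RingHom.id_apply] }
    obtain ⟨k, hk⟩ := sc f (fun i x => by
      change con ψ (s (α.symm (ρ' i x) ⊗ₜ[K] b)) = ρ' i (con ψ (s (α.symm x ⊗ₜ[K] b)))
      rw [hαsi, ← con_rTensor, ← hi]
      simp)
    refine ⟨k, fun a => ?_⟩
    have := hk (α a)
    change con ψ (s (α.symm (α a) ⊗ₜ[K] b)) = k • α a at this
    rwa [α.symm_apply_apply] at this
  choose κ hκ using key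
  let bs := Module.finBasis K B'
  have hform : ∀ (b : B), ∃ y : B', ∀ a : A, s (a ⊗ₜ[K] b) = α a ⊗ₜ[K] y := by
    intro b
    refine ⟨∑ j, κ (bs.coord j) b • bs j, fun a => ?_⟩
    conv_lhs => rw [eq_sum bs (s (a ⊗ₜ[K] b))]
    rw [TensorProduct.tmul_sum]
    refine Finset.sum_congr rfl fun j _ => ?_
    rw [hκ, TensorProduct.smul_tmul]
  choose β₁ hβ₁ using hform
  have hα₀ : α a₀ ≠ 0 := fun h => ha₀ (α.injective (by rw [h, map_zero]))
  obtain ⟨f, hf⟩ := exists_dual (K := K) hα₀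
  have hβf : ∀ b, β₁ b = con' f (s (a₀ ⊗ₜ[K] b)) := fun b => by
    rw [hβ₁, con'_tmul, hf, one_smul]
  have hβk : ∀ (k : K) (b : B), β₁ (k • b) = σ k • β₁ b := fun k b => by
    rw [hβf, hβf, TensorProduct.tmul_smul, hs, map_smul]
  let β₀ : B →+ B' :=
    { toFun := β₁
      map_zero' := by rw [hβf]; simp
      map_add' := fun b c => by rw [hβf, hβf, hβf, TensorProduct.tmul_add, map_add, map_add] }
  have hβ₀ : ∀ b, β₀ b = β₁ b := fun b => rfl
  have hβinj : Function.Injective β₀ := by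
    rw [injective_iff_map_eq_zero]
    intro b hb
    by_contra hb0
    apply tmul_ne_zero (K := K) ha₀ hb0
    apply s.injective
    rw [hβ₁, ← hβ₀, hb, TensorProduct.tmul_zero, map_zero]
  have hβsurj : Function.Surjective β₀ := by
    intro c
    obtain ⟨x, hx⟩ := s.surjective (α a₀ ⊗ₜ[K] c)
    have h1 : ∀ x : A ⊗[K] B, ∃ b, con' f (s x) = β₀ b := by
      intro x
      induction x with
      | zero => exact ⟨0, by simp⟩
      | tmul a b =>
        refine ⟨σ.symm (f (α a)) • b, ?_⟩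
        rw [hβ₁, con'_tmul, hβ₀, hβk, σ.apply_symm_apply]
      | add x y hx hy =>
        obtain ⟨b, hb⟩ := hx
        obtain ⟨c, hc⟩ := hy
        exact ⟨b + c, by rw [map_add, map_add, hb, hc, map_add]⟩
    obtain ⟨b, hb⟩ := h1 x
    refine ⟨b, ?_⟩
    rw [← hb, hx, con'_tmul, hf, one_smul]
  exact ⟨α, AddEquiv.ofBijective β₀ ⟨hβinj, hβsurj⟩, hαk, hβk, fun a b => hβ₁ b a, hαI⟩

end pure

section invol

variable {K : Type*} [Field K] {A B : Type*} [AddCommGroup A] [Module K A] [AddCommGroup B] [Module K B]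

/-- `α ⊗ β = α' ⊗ β'` ⟹ `α = k α'`, `β' = k β`, `k ≠ 0`. -/
theorem scal [Nontrivial A] [Nontrivial B] {α α' : A →ₗ[K] A} {β β' : B →ₗ[K] B}
    (hα : Function.Injective α) (hβ : Function.Injective β)
    (h : ∀ a b, α a ⊗ₜ[K] β b = α' a ⊗ₜ[K] β' b) :
    ∃ k : K, k ≠ 0 ∧ (∀ a, α a = k • α' a) ∧ ∀ b, β' b = k • β b := by
  obtain ⟨a₀, ha₀⟩ := exists_ne (0 : A)
  obtain ⟨b₀, hb₀⟩ := exists_ne (0 : B)
  have hb1 : β b₀ ≠ 0 := fun h => hb₀ (hβ (by rw [h, map_zero]))
  have ha1 : α a₀ ≠ 0 := fun h => ha₀ (hα (by rw [h, map_zero]))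
  obtain ⟨φ, hφ⟩ := exists_dual (K := K) hb1
  have h1 : ∀ a, α a = φ (β' b₀) • α' a := fun a => by
    have := congrArg (con φ) (h a b₀)
    rwa [con_tmul, con_tmul, hφ, one_smul] at this
  have hk : φ (β' b₀) ≠ 0 := fun h0 => ha1 (by rw [h1, h0, zero_smul])
  refine ⟨φ (β' b₀), hk, h1, fun b => ?_⟩
  have ha2 : α' a₀ ≠ 0 := fun h0 => ha1 (by rw [h1, h0, smul_zero])
  obtain ⟨ψ, hψ⟩ := exists_dual (K := K) ha2
  have := congrArg (con' ψ) (h a₀ b)
  rw [con'_tmul, con'_tmul, hψ, one_smul, h1, map_smul, hψ, smul_eq_mul, mul_one] at this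
  exact this.symm

variable [Finite K] [CharP K 2]

theorem exists_sqrt (k : K) : ∃ m : K, m * m = k := by
  have h1 : Function.Injective (fun x : K => x * x) := by
    intro x y hxy
    have h2 : (x + y) * (x + y) = 0 := by
      have h3 : x * x = y * y := hxy
      calc (x + y) * (x + y) = x * x + y * y + 2 * (x * y) := by ring
        _ = 0 := by rw [h3, CharTwo.add_self_eq_zero, CharTwo.two_eq_zero, zero_mul, add_zero]
    have h4 : x + y = 0 := mul_self_eq_zero.1 h2
    exact CharTwo.add_eq_zero.1 h4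
  obtain ⟨m, hm⟩ := (Finite.injective_iff_surjective.1 h1) k
  exact ⟨m, hm⟩

omit [Finite K] in
theorem sq_eq_one {k : K} (h : k * k = 1) : k = 1 := by
  have h2 : (k + 1) * (k + 1) = 0 := by
    calc (k + 1) * (k + 1) = k * k + 1 + 2 * k := by ring
      _ = 0 := by rw [h, CharTwo.add_self_eq_zero, CharTwo.two_eq_zero, zero_mul, add_zero]
  exact CharTwo.add_eq_zero.1 (mul_self_eq_zero.1 h2)

/-- a pure tensor which is an involution is the tensor product of two involutions -/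
theorem invol [Nontrivial A] [Nontrivial B] {α : A →ₗ[K] A} {β : B →ₗ[K] B}
    (h : ∀ a b, α (α a) ⊗ₜ[K] β (β b) = a ⊗ₜ[K] b) :
    ∃ (α' : A →ₗ[K] A) (β' : B →ₗ[K] B), (∀ a, α' (α' a) = a) ∧ (∀ b, β' (β' b) = b) ∧
      ∀ a b, α' a ⊗ₜ[K] β' b = α a ⊗ₜ[K] β b := by
  obtain ⟨k, hk0, hk1, hk2⟩ := scal (K := K) (α := LinearMap.id) (β := LinearMap.id) (α' := α ∘ₗ α) (β' := β ∘ₗ β)
    Function.injective_id Function.injective_id (fun a b => by simpa using (h a b).symm)
  obtain ⟨m, hm⟩ := exists_sqrt k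
  have hm0 : m ≠ 0 := fun h => hk0 (by rw [← hm, h, zero_mul])
  refine ⟨m • α, m⁻¹ • β, fun a => ?_, fun b => ?_, fun a b => ?_⟩
  · have := hk1 a
    simp only [LinearMap.id_coe, id_eq, LinearMap.coe_comp, Function.comp_apply] at this
    simp only [LinearMap.smul_apply, map_smul, smul_smul]
    rw [hm]
    exact this.symm
  · have := hk2 b
    simp only [LinearMap.id_coe, id_eq, LinearMap.coe_comp, Function.comp_apply] at this
    simp only [LinearMap.smul_apply, map_smul, smul_smul]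
    rw [this, smul_smul, ← hm]
    have : m⁻¹ * m⁻¹ * (m * m) = 1 := by field_simp
    rw [this, one_smul]
  · simp only [LinearMap.smul_apply]
    rw [TensorProduct.smul_tmul, smul_smul, mul_inv_cancel₀ hm0, one_smul]

omit [Finite K] in
theorem invol_unique [Nontrivial A] [Nontrivial B] {α α' : A →ₗ[K] A} {β β' : B →ₗ[K] B}
    (h1 : ∀ a, α (α a) = a) (h2 : ∀ b, β (β b) = b) (h3 : ∀ a, α' (α' a) = a) (_h4 : ∀ b, β' (β' b) = b)
    (h : ∀ a b, α a ⊗ₜ[K] β b = α' a ⊗ₜ[K] β' b) : α = α' ∧ β = β' := by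
  have i1 : Function.Injective α := Function.LeftInverse.injective h1
  have i2 : Function.Injective β := Function.LeftInverse.injective h2
  obtain ⟨k, hk0, hk1, hk2⟩ := scal i1 i2 h
  obtain ⟨a₀, ha₀⟩ := exists_ne (0 : A)
  have hk : k * k = 1 := by
    have h5 : (k * k) • a₀ = a₀ := by
      calc (k * k) • a₀ = k • k • α' (α' a₀) := by rw [h3, smul_smul]
        _ = k • α' (k • α' a₀) := by rw [map_smul]
        _ = α (α a₀) := by rw [hk1 (α a₀), hk1 a₀]
        _ = a₀ := h1 a₀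
    by_contra hne
    have h6 : (k * k - 1) • a₀ = 0 := by rw [sub_smul, h5, one_smul, sub_self]
    rcases smul_eq_zero.1 h6 with h7 | h7
    · exact hne (sub_eq_zero.1 h7)
    · exact ha₀ h7
  have hk1' := sq_eq_one hk
  subst hk1'
  exact ⟨LinearMap.ext fun a => by rw [hk1, one_smul], LinearMap.ext fun b => by rw [hk2, one_smul]⟩

/-- **an elementary abelian group of pure tensors acts through two homomorphisms** -/
theorem exists_hom [Nontrivial A] [Nontrivial B] {U : Type*} [Group U] (r : U →* Module.End K (A ⊗[K] B))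
    (h2 : ∀ u : U, u * u = 1)
    (hp : ∀ u : U, ∃ (α : A →ₗ[K] A) (β : B →ₗ[K] B), ∀ a b, r u (a ⊗ₜ b) = α a ⊗ₜ β b) :
    ∃ (rA : U →* Module.End K A) (rB : U →* Module.End K B), ∀ u a b, r u (a ⊗ₜ b) = rA u a ⊗ₜ rB u b := by
  have hp' : ∀ u : U, ∃ (α : A →ₗ[K] A) (β : B →ₗ[K] B), (∀ a, α (α a) = a) ∧ (∀ b, β (β b) = b) ∧
      ∀ a b, r u (a ⊗ₜ b) = α a ⊗ₜ β b := by
    intro u
    obtain ⟨α, β, h⟩ := hp u
    obtain ⟨α', β', h1, h2, h3⟩ := invol (α := α) (β := β) (fun a b => by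
      have : r u (r u (a ⊗ₜ b)) = a ⊗ₜ b := by
        rw [← Module.End.mul_apply, ← map_mul, h2, map_one, Module.End.one_apply]
      rw [h, h] at this
      exact this)
    exact ⟨α', β', h1, h2, fun a b => by rw [h, h3]⟩
  choose f g hf hg hfg using hp'
  have hcomm : ∀ u v : U, u * v = v * u := fun u v => by
    have h3 : u⁻¹ = u := inv_eq_of_mul_eq_one_left (h2 u)
    have h4 : v⁻¹ = v := inv_eq_of_mul_eq_one_left (h2 v)
    have h5 : (u * v)⁻¹ = u * v := inv_eq_of_mul_eq_one_left (h2 (u * v))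
    calc u * v = (u * v)⁻¹ := h5.symm
      _ = v * u := by rw [mul_inv_rev, h3, h4]
  have inj : ∀ u, Function.Injective (f u) := fun u => Function.LeftInverse.injective (hf u)
  have injg : ∀ u, Function.Injective (g u) := fun u => Function.LeftInverse.injective (hg u)
  have hprod : ∀ u v a b, r (u * v) (a ⊗ₜ b) = f u (f v a) ⊗ₜ g u (g v b) := fun u v a b => by
    rw [map_mul, Module.End.mul_apply, hfg, hfg]
  -- f u and f v commute
  have cf : ∀ u v, (∀ a, f u (f v a) = f v (f u a)) ∧ ∀ b, g u (g v b) = g v (g u b) := by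
    intro u v
    obtain ⟨k, hk0, hk1, hk2⟩ := scal (K := K) (α := f u ∘ₗ f v) (β := g u ∘ₗ g v) (α' := f v ∘ₗ f u)
      (β' := g v ∘ₗ g u) ((inj u).comp (inj v)) ((injg u).comp (injg v)) (fun a b => by
        simp only [LinearMap.coe_comp, Function.comp_apply]
        rw [← hprod, hcomm, hprod])
    simp only [LinearMap.coe_comp, Function.comp_apply] at hk1 hk2
    obtain ⟨a₀, ha₀⟩ := exists_ne (0 : A)
    have hk : k * k = 1 := by
      have h5 : (k * k) • a₀ = a₀ := by
        have e1 : f u (f v (f v (f u a₀))) = a₀ := by rw [hf, hf]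
        have e2 : f u (f v (f v (f u a₀))) = (k * k) • a₀ := by
          rw [hk1 (f v (f u a₀)), show f u (f v (f u a₀)) = k • f v (f u (f u a₀)) from hk1 (f u a₀), hf,
            map_smul, hf, smul_smul]
        rw [← e2, e1]
      by_contra hne
      have h6 : (k * k - 1) • a₀ = 0 := by rw [sub_smul, h5, one_smul, sub_self]
      rcases smul_eq_zero.1 h6 with h7 | h7
      · exact hne (sub_eq_zero.1 h7)
      · exact ha₀ h7
    have hk1' := sq_eq_one hk
    subst hk1'
    exact ⟨fun a => by rw [hk1, one_smul], fun b => by rw [hk2, one_smul]⟩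
  have hmul : ∀ u v : U, f (u * v) = f u ∘ₗ f v ∧ g (u * v) = g u ∘ₗ g v := by
    intro u v
    refine invol_unique (hf _) (hg _) (fun a => ?_) (fun b => ?_) (fun a b => ?_)
    · simp only [LinearMap.coe_comp, Function.comp_apply]
      rw [(cf u v).1 (f u (f v a)), hf, hf]
    · simp only [LinearMap.coe_comp, Function.comp_apply]
      rw [(cf u v).2 (g u (g v b)), hg, hg]
    · simp only [LinearMap.coe_comp, Function.comp_apply]
      rw [← hfg, hprod]
  have hone : f 1 = LinearMap.id ∧ g 1 = LinearMap.id := by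
    refine invol_unique (hf _) (hg _) (fun a => rfl) (fun b => rfl) (fun a b => ?_)
    rw [← hfg, map_one]
    rfl
  exact ⟨{ toFun := f, map_one' := hone.1, map_mul' := fun u v => (hmul u v).1 },
    { toFun := g, map_one' := hone.2, map_mul' := fun u v => (hmul u v).2 }, hfg⟩

end invol

end Cfsg.Agent.Omega.NO1.Comp.Pure

end

section


/-!
# Three tensor factors and a swap (project OMEGA, N1, THEOREM COMP #17539, part (II)(c); helper168)

`V = A ⊗ (B ⊗ X)` over a field `K`.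

* `pure3` : an additive semilinear bijection which normalises the groups acting on `A` and on `B` (and nothing else) is
  `α ⊗ β ⊗ γ`.
* `swap3` : one that interchanges them is `a ⊗ b ⊗ x ↦ β b ⊗ α a ⊗ γ x`.
* `norm_form` (`K` finite, characteristic 2): an elementary abelian group `U` of linear maps of `V`, `U₁ ≤ U` consisting of
  pure tensors, `s ∈ U` of swap type: `V ≃ A ⊗ (A ⊗ X)` with `s = swap ⊗ sX` and `u = u₊ ⊗ u₊ ⊗ uX` for `u ∈ U₁`.
-/

set_option autoImplicit false
set_option linter.unusedSectionVars false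

namespace Cfsg.Agent.Omega.NO1.Comp.Swap

open TensorProduct Cfsg.Agent.Omega.NO1.Comp.Pure

section three

variable {K : Type*} [Field K] {A B X A' B' X' : Type*} [AddCommGroup A] [Module K A] [AddCommGroup B] [Module K B]
  [AddCommGroup X] [Module K X] [AddCommGroup A'] [Module K A'] [AddCommGroup B'] [Module K B']
  [AddCommGroup X'] [Module K X'] [FiniteDimensional K B'] [FiniteDimensional K X']
  {I J : Type*}

theorem tmul_right_inj {a : A} (ha : a ≠ 0) {x y : B} (h : a ⊗ₜ[K] x = a ⊗ₜ[K] y) : x = y := by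
  obtain ⟨φ, hφ⟩ := exists_dual (K := K) ha
  have := congrArg (con' φ) h
  rwa [con'_tmul, con'_tmul, hφ, one_smul, one_smul] at this

/-- **three factors** -/
theorem pure3 [Nontrivial A] [Nontrivial B] [Nontrivial X] (σ : K ≃+* K)
    (s : A ⊗[K] (B ⊗[K] X) ≃+ A' ⊗[K] (B' ⊗[K] X'))
    (hs : ∀ (k : K) (x), s (k • x) = σ k • s x)
    (ρ : I → A →ₗ[K] A) (ρ' : I → A' →ₗ[K] A') (τ : J → B →ₗ[K] B) (τ' : J → B' →ₗ[K] B')
    (hi : ∀ i x, s ((ρ i).rTensor (B ⊗[K] X) x) = (ρ' i).rTensor (B' ⊗[K] X') (s x))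
    (hj : ∀ j x, s (((τ j).rTensor X).lTensor A x) = ((τ' j).rTensor X').lTensor A' (s x))
    (irr : ∀ N : Submodule K A, (∀ i, ∀ a ∈ N, ρ i a ∈ N) → N = ⊥ ∨ N = ⊤)
    (irr' : ∀ N : Submodule K A', (∀ i, ∀ a ∈ N, ρ' i a ∈ N) → N = ⊥ ∨ N = ⊤)
    (sc : ∀ f : A' →ₗ[K] A', (∀ i x, f (ρ' i x) = ρ' i (f x)) → ∃ k : K, ∀ x, f x = k • x)
    (irrB : ∀ N : Submodule K B, (∀ i, ∀ a ∈ N, τ i a ∈ N) → N = ⊥ ∨ N = ⊤)
    (irrB' : ∀ N : Submodule K B', (∀ i, ∀ a ∈ N, τ' i a ∈ N) → N = ⊥ ∨ N = ⊤)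
    (scB : ∀ f : B' →ₗ[K] B', (∀ i x, f (τ' i x) = τ' i (f x)) → ∃ k : K, ∀ x, f x = k • x) :
    ∃ (α : A ≃+ A') (β : B ≃+ B') (γ : X ≃+ X'), (∀ (k : K) (a), α (k • a) = σ k • α a) ∧
      (∀ (k : K) (b), β (k • b) = σ k • β b) ∧ (∀ (k : K) (b), γ (k • b) = σ k • γ b) ∧
      ∀ a b x, s (a ⊗ₜ (b ⊗ₜ x)) = α a ⊗ₜ (β b ⊗ₜ γ x) := by
  obtain ⟨α, ψ, hα, hψ, hs1, -⟩ := pure σ s hs ρ ρ' hi irr irr' sc
  obtain ⟨a₀, ha₀⟩ := exists_ne (0 : A)
  have hα₀ : α a₀ ≠ 0 := fun h => ha₀ (α.injective (by rw [h, map_zero]))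
  obtain ⟨β, γ, hβ, hγ, hs2, -⟩ := pure σ ψ hψ τ τ' (fun j x => by
    apply tmul_right_inj (K := K) hα₀
    have e1 := hj j (a₀ ⊗ₜ[K] x)
    rw [LinearMap.lTensor_tmul, hs1, hs1, LinearMap.lTensor_tmul] at e1
    exact e1) irrB irrB' scB
  exact ⟨α, β, γ, hα, hβ, hγ, fun a b x => by rw [hs1, hs2]⟩

/-- **swap** -/
theorem swap3 [Nontrivial A] [Nontrivial B] [Nontrivial X] [FiniteDimensional K A'] (σ : K ≃+* K)
    (s : A ⊗[K] (B ⊗[K] X) ≃+ A' ⊗[K] (B' ⊗[K] X'))
    (hs : ∀ (k : K) (x), s (k • x) = σ k • s x)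
    (ρ : I → A →ₗ[K] A) (τ' : I → B' →ₗ[K] B') (τ : J → B →ₗ[K] B) (ρ' : J → A' →ₗ[K] A')
    (hi : ∀ i x, s ((ρ i).rTensor (B ⊗[K] X) x) = ((τ' i).rTensor X').lTensor A' (s x))
    (hj : ∀ j x, s (((τ j).rTensor X).lTensor A x) = (ρ' j).rTensor (B' ⊗[K] X') (s x))
    (irr : ∀ N : Submodule K A, (∀ i, ∀ a ∈ N, ρ i a ∈ N) → N = ⊥ ∨ N = ⊤)
    (irr' : ∀ N : Submodule K B', (∀ i, ∀ a ∈ N, τ' i a ∈ N) → N = ⊥ ∨ N = ⊤)
    (sc : ∀ f : B' →ₗ[K] B', (∀ i x, f (τ' i x) = τ' i (f x)) → ∃ k : K, ∀ x, f x = k • x)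
    (irrB : ∀ N : Submodule K B, (∀ i, ∀ a ∈ N, τ i a ∈ N) → N = ⊥ ∨ N = ⊤)
    (irrB' : ∀ N : Submodule K A', (∀ i, ∀ a ∈ N, ρ' i a ∈ N) → N = ⊥ ∨ N = ⊤)
    (scB : ∀ f : A' →ₗ[K] A', (∀ i x, f (ρ' i x) = ρ' i (f x)) → ∃ k : K, ∀ x, f x = k • x) :
    ∃ (α : A ≃+ B') (β : B ≃+ A') (γ : X ≃+ X'), (∀ (k : K) (a), α (k • a) = σ k • α a) ∧
      (∀ (k : K) (b), β (k • b) = σ k • β b) ∧ (∀ (k : K) (b), γ (k • b) = σ k • γ b) ∧
      ∀ a b x, s (a ⊗ₜ (b ⊗ₜ x)) = β b ⊗ₜ (α a ⊗ₜ γ x) := by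
  let lc : A' ⊗[K] (B' ⊗[K] X') ≃ₗ[K] B' ⊗[K] (A' ⊗[K] X') := TensorProduct.leftComm K A' B' X'
  have l1 : ∀ (f : B' →ₗ[K] B') (x : A' ⊗[K] (B' ⊗[K] X')), lc ((f.rTensor X').lTensor A' x) =
      f.rTensor (A' ⊗[K] X') (lc x) := by
    intro f x
    induction x with
    | zero => simp
    | tmul a y =>
      induction y with
      | zero => simp
      | tmul b z => simp [lc]
      | add y z hy hz => rw [TensorProduct.tmul_add, map_add, map_add, map_add, map_add, hy, hz]
    | add x y hx hy => rw [map_add, map_add, map_add, map_add, hx, hy]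
  have l2 : ∀ (f : A' →ₗ[K] A') (x : A' ⊗[K] (B' ⊗[K] X')), lc (f.rTensor (B' ⊗[K] X') x) =
      (f.rTensor X').lTensor B' (lc x) := by
    intro f x
    induction x with
    | zero => simp
    | tmul a y =>
      induction y with
      | zero => simp
      | tmul b z => simp [lc]
      | add y z hy hz => rw [TensorProduct.tmul_add, map_add, map_add, map_add, map_add, hy, hz]
    | add x y hx hy => rw [map_add, map_add, map_add, map_add, hx, hy]
  obtain ⟨α, β, γ, h1, h2, h3, h4⟩ := pure3 σ (s.trans lc.toAddEquiv) (fun k x => by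
      change lc (s (k • x)) = σ k • lc (s x)
      rw [hs, map_smul]) ρ τ' τ ρ'
    (fun i x => by
      change lc (s _) = (τ' i).rTensor _ (lc (s x))
      rw [hi, l1])
    (fun j x => by
      change lc (s _) = ((ρ' j).rTensor _).lTensor _ (lc (s x))
      rw [hj, l2]) irr irr' sc irrB irrB' scB
  refine ⟨α, β, γ, h1, h2, h3, fun a b x => ?_⟩
  apply lc.injective
  have := h4 a b x
  change lc (s (a ⊗ₜ (b ⊗ₜ x))) = α a ⊗ₜ (β b ⊗ₜ γ x) at this
  rw [this]
  rfl

end three

section norm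

variable {K : Type*} [Field K] [Finite K] [CharP K 2] {A B X V : Type*} [AddCommGroup A] [Module K A]
  [AddCommGroup B] [Module K B] [AddCommGroup X] [Module K X] [AddCommGroup V] [Module K V]
  [Nontrivial A] [Nontrivial B] [Nontrivial X]

/-- transport of a homomorphism -/
noncomputable def tr {W : Type*} [AddCommGroup W] [Module K W] (ψ : W ≃ₗ[K] V) {U : Type*} [Group U]
    (r : U →* Module.End K V) : U →* Module.End K W where
  toFun u := ψ.symm.toLinearMap ∘ₗ r u ∘ₗ ψ.toLinearMap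
  map_one' := by
    ext w
    simp
  map_mul' u v := by
    ext w
    simp

theorem tr_apply {W : Type*} [AddCommGroup W] [Module K W] (ψ : W ≃ₗ[K] V) {U : Type*} [Group U]
    (r : U →* Module.End K V) (u : U) (w : W) : ψ (tr ψ r u w) = r u (ψ w) := by
  simp [tr]

/-- two factors: an elementary abelian group of pure tensors on `V` -/
theorem exists_hom_V (φ : A ⊗[K] B ≃ₗ[K] V) {U : Type*} [Group U] (r : U →* Module.End K V)
    (h2 : ∀ u : U, u * u = 1)
    (hp : ∀ u : U, ∃ (α : A →ₗ[K] A) (β : B →ₗ[K] B), ∀ a b, r u (φ (a ⊗ₜ b)) = φ (α a ⊗ₜ β b)) :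
    ∃ (rA : U →* Module.End K A) (rB : U →* Module.End K B),
      ∀ u a b, r u (φ (a ⊗ₜ b)) = φ (rA u a ⊗ₜ rB u b) := by
  obtain ⟨rA, rB, h⟩ := exists_hom (tr φ r) h2 (fun u => by
    obtain ⟨α, β, h⟩ := hp u
    exact ⟨α, β, fun a b => φ.injective (by rw [tr_apply, h])⟩)
  exact ⟨rA, rB, fun u a b => by rw [← tr_apply, h]⟩

/-- three factors -/
theorem exists_hom3 (φ : A ⊗[K] (B ⊗[K] X) ≃ₗ[K] V) {U : Type*} [Group U] (r : U →* Module.End K V)
    (h2 : ∀ u : U, u * u = 1)
    (hp : ∀ u : U, ∃ (α : A →ₗ[K] A) (β : B →ₗ[K] B) (γ : X →ₗ[K] X),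
      ∀ a b x, r u (φ (a ⊗ₜ (b ⊗ₜ x))) = φ (α a ⊗ₜ (β b ⊗ₜ γ x))) :
    ∃ (rA : U →* Module.End K A) (rB : U →* Module.End K B) (rX : U →* Module.End K X),
      ∀ u a b x, r u (φ (a ⊗ₜ (b ⊗ₜ x))) = φ (rA u a ⊗ₜ (rB u b ⊗ₜ rX u x)) := by
  obtain ⟨rA, rBX, h⟩ := exists_hom_V φ r h2 (fun u => by
    obtain ⟨α, β, γ, h⟩ := hp u
    refine ⟨α, TensorProduct.map β γ, fun a y => ?_⟩
    induction y with
    | zero => simp
    | tmul b x => rw [h]; simp
    | add x y hx hy => rw [TensorProduct.tmul_add, map_add, map_add, hx, hy, map_add, TensorProduct.tmul_add, map_add])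
  have hinv : ∀ (u : U) (a : A), rA u (rA u a) = a := fun u a => by
    rw [← Module.End.mul_apply, ← map_mul, h2, map_one, Module.End.one_apply]
  have hinv' : ∀ (u : U) (y : B ⊗[K] X), rBX u (rBX u y) = y := fun u y => by
    rw [← Module.End.mul_apply, ← map_mul, h2, map_one, Module.End.one_apply]
  obtain ⟨b₀, hb₀⟩ := exists_ne (0 : B)
  obtain ⟨x₀, hx₀⟩ := exists_ne (0 : X)
  have : Nontrivial (B ⊗[K] X) := ⟨⟨b₀ ⊗ₜ x₀, 0, tmul_ne_zero hb₀ hx₀⟩⟩
  obtain ⟨rB, rX, h'⟩ := exists_hom rBX h2 (fun u => by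
    obtain ⟨α, β, γ, h1⟩ := hp u
    obtain ⟨k, hk0, hk1, hk2⟩ := scal (K := K) (α := rA u) (β := rBX u) (α' := α) (β' := TensorProduct.map β γ)
      (Function.LeftInverse.injective (hinv u)) (Function.LeftInverse.injective (hinv' u)) (fun a y => by
        apply φ.injective
        rw [← h]
        induction y with
        | zero => simp
        | tmul b x => rw [h1]; simp
        | add x y hx hy =>
          rw [TensorProduct.tmul_add, map_add, map_add, hx, hy, map_add, TensorProduct.tmul_add, map_add])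
    refine ⟨k⁻¹ • β, γ, fun b x => ?_⟩
    have h3 := hk2 (b ⊗ₜ x)
    rw [TensorProduct.map_tmul] at h3
    rw [LinearMap.smul_apply, ← TensorProduct.smul_tmul', h3, smul_smul, inv_mul_cancel₀ hk0, one_smul])
  exact ⟨rA, rB, rX, fun u a b x => by rw [h, h']⟩

/-- **the normal form with a swap** (with the form of `ψ`) -/
theorem norm_form' (φ : A ⊗[K] (B ⊗[K] X) ≃ₗ[K] V) {U : Type*} [Group U] (r : U →* Module.End K V)
    (h2 : ∀ u : U, u * u = 1) (U₁ : Subgroup U) (s : U)
    (hp : ∀ u ∈ U₁, ∃ (α : A →ₗ[K] A) (β : B →ₗ[K] B) (γ : X →ₗ[K] X),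
      ∀ a b x, r u (φ (a ⊗ₜ (b ⊗ₜ x))) = φ (α a ⊗ₜ (β b ⊗ₜ γ x)))
    (α : A ≃ₗ[K] B) (β : B →ₗ[K] A) (γ : X →ₗ[K] X)
    (hsw : ∀ a b x, r s (φ (a ⊗ₜ (b ⊗ₜ x))) = φ (β b ⊗ₜ (α a ⊗ₜ γ x))) :
    ∃ (ψ : A ⊗[K] (A ⊗[K] X) ≃ₗ[K] V) (rA : U₁ →* Module.End K A) (rX : U₁ →* Module.End K X)
      (sX : Module.End K X),
      (∀ (u : U₁) a a' x, r u (ψ (a ⊗ₜ (a' ⊗ₜ x))) = ψ (rA u a ⊗ₜ (rA u a' ⊗ₜ rX u x))) ∧
      (∀ a a' x, r s (ψ (a ⊗ₜ (a' ⊗ₜ x))) = ψ (a' ⊗ₜ (a ⊗ₜ sX x))) ∧ sX * sX = 1 ∧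
      (∀ u, sX * rX u = rX u * sX) ∧ ∀ a a' x, ψ (a ⊗ₜ (a' ⊗ₜ x)) = φ (a ⊗ₜ (α a' ⊗ₜ x)) := by
  obtain ⟨a₀, ha₀⟩ := exists_ne (0 : A)
  obtain ⟨b₀, hb₀⟩ := exists_ne (0 : B)
  obtain ⟨x₀, hx₀⟩ := exists_ne (0 : X)
  have : Nontrivial (B ⊗[K] X) := ⟨⟨b₀ ⊗ₜ x₀, 0, tmul_ne_zero hb₀ hx₀⟩⟩
  have hrr : ∀ v, r s (r s v) = v := fun v => by
    rw [← Module.End.mul_apply, ← map_mul, h2, map_one, Module.End.one_apply]
  -- β ∘ α is a scalar
  obtain ⟨k, hk0, hk1, -⟩ := scal (K := K) (α := LinearMap.id) (β := LinearMap.id) (α' := β ∘ₗ α.toLinearMap)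
    (β' := TensorProduct.map (α.toLinearMap ∘ₗ β) (γ ∘ₗ γ)) Function.injective_id Function.injective_id (fun a y => by
      apply φ.injective
      induction y with
      | zero => simp
      | tmul b x =>
        have := hrr (φ (a ⊗ₜ (b ⊗ₜ x)))
        rw [hsw, hsw] at this
        simpa using this.symm
      | add x y hx hy =>
        simp only [map_add, TensorProduct.tmul_add] at hx hy ⊢
        rw [hx, hy])
  have hβα : ∀ a, β (α a) = k⁻¹ • a := fun a => by
    have h3 := hk1 a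
    simp only [LinearMap.id_coe, id_eq, LinearMap.coe_comp, LinearEquiv.coe_coe, Function.comp_apply] at h3
    rw [show k⁻¹ • a = k⁻¹ • (k • β (α a)) from by rw [← h3], smul_smul, inv_mul_cancel₀ hk0, one_smul]
  let ψ : A ⊗[K] (A ⊗[K] X) ≃ₗ[K] V :=
    (TensorProduct.congr (LinearEquiv.refl K A) (TensorProduct.congr α (LinearEquiv.refl K X))).trans φ
  have hψ : ∀ a a' x, ψ (a ⊗ₜ (a' ⊗ₜ x)) = φ (a ⊗ₜ (α a' ⊗ₜ x)) := fun a a' x => rfl
  let sX : Module.End K X := k⁻¹ • γ
  have hsX : ∀ a a' x, r s (ψ (a ⊗ₜ (a' ⊗ₜ x))) = ψ (a' ⊗ₜ (a ⊗ₜ sX x)) := fun a a' x => by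
    rw [hψ, hsw, hβα, hψ, ← TensorProduct.smul_tmul']
    simp only [sX, LinearMap.smul_apply, TensorProduct.tmul_smul]
  have tinj : ∀ x y : X, ψ (a₀ ⊗ₜ (a₀ ⊗ₜ x)) = ψ (a₀ ⊗ₜ (a₀ ⊗ₜ y)) → x = y := fun x y h =>
    tmul_right_inj ha₀ (tmul_right_inj ha₀ (ψ.injective h))
  have hsX2 : sX * sX = 1 := by
    apply LinearMap.ext
    intro x
    apply tinj
    rw [Module.End.mul_apply, ← hsX, ← hsX, hrr]
    rfl
  obtain ⟨rA, rA', rX, hr⟩ := exists_hom3 ψ (r.comp U₁.subtype) (fun u => Subtype.ext (h2 u)) (fun u => by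
    obtain ⟨α₁, β₁, γ₁, h1⟩ := hp u u.2
    refine ⟨α₁, α.symm.toLinearMap ∘ₗ β₁ ∘ₗ α.toLinearMap, γ₁, fun a b x => ?_⟩
    rw [hψ, hψ]
    change r u _ = _
    rw [h1]
    simp)
  have hr' : ∀ (u : U₁) a a' x, r u (ψ (a ⊗ₜ (a' ⊗ₜ x))) = ψ (rA u a ⊗ₜ (rA' u a' ⊗ₜ rX u x)) := hr
  have hc : ∀ u : U₁, ∀ v, r s (r u v) = r u (r s v) := fun u v => by
    rw [← Module.End.mul_apply, ← map_mul, ← Module.End.mul_apply, ← map_mul]
    have hcomm : s * u = u * s := by
      have h3 : s⁻¹ = s := inv_eq_of_mul_eq_one_left (h2 s)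
      have h4 : (u : U)⁻¹ = u := inv_eq_of_mul_eq_one_left (h2 u)
      have h5 : (s * (u : U))⁻¹ = s * u := inv_eq_of_mul_eq_one_left (h2 (s * u))
      calc s * (u : U) = (s * u)⁻¹ := h5.symm
        _ = u * s := by rw [mul_inv_rev, h3, h4]
    rw [hcomm]
  have hA2 : ∀ (u : U₁) a, rA u (rA u a) = a := fun u a => by
    rw [← Module.End.mul_apply, ← map_mul, show u * u = 1 from Subtype.ext (h2 u), map_one, Module.End.one_apply]
  have hA2' : ∀ (u : U₁) a, rA' u (rA' u a) = a := fun u a => by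
    rw [← Module.End.mul_apply, ← map_mul, show u * u = 1 from Subtype.ext (h2 u), map_one, Module.End.one_apply]
  have hX2 : ∀ (u : U₁) a, rX u (rX u a) = a := fun u a => by
    rw [← Module.End.mul_apply, ← map_mul, show u * u = 1 from Subtype.ext (h2 u), map_one, Module.End.one_apply]
  have hsX2' : ∀ x, sX (sX x) = x := fun x => by rw [← Module.End.mul_apply, hsX2, Module.End.one_apply]
  have main : ∀ (u : U₁) a a' x, rA' u a' ⊗ₜ[K] (rA u a ⊗ₜ[K] sX (rX u x)) =
      rA u a' ⊗ₜ[K] (rA' u a ⊗ₜ[K] rX u (sX x)) := fun u a a' x => by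
    apply ψ.injective
    rw [← hsX, ← hr', hc, hsX, hr']
  have heq : ∀ u, rA' u = rA u := by
    intro u
    have : Nontrivial (A ⊗[K] X) := ⟨⟨a₀ ⊗ₜ x₀, 0, tmul_ne_zero ha₀ hx₀⟩⟩
    obtain ⟨m, hm0, hm1, hm2⟩ := scal (K := K) (α := rA' u) (α' := rA u)
      (β := TensorProduct.map (rA u) (sX * rX u)) (β' := TensorProduct.map (rA' u) (rX u * sX))
      (Function.LeftInverse.injective (hA2' u)) (by
        apply Function.LeftInverse.injective (g := TensorProduct.map (rA u) (rX u * sX))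
        intro y
        rw [← LinearMap.comp_apply, ← TensorProduct.map_comp]
        have e1 : rA u ∘ₗ rA u = LinearMap.id := LinearMap.ext (hA2 u)
        have e2 : (rX u * sX) ∘ₗ (sX * rX u) = LinearMap.id := LinearMap.ext fun x => by
          simp only [LinearMap.coe_comp, Function.comp_apply, Module.End.mul_apply, LinearMap.id_coe, id_eq]
          rw [hsX2', hX2]
        rw [e1, e2, TensorProduct.map_id]; rfl) (fun a y => by
        induction y with
        | zero => simp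
        | tmul b x => simpa using main u b a x
        | add x y hx hy => simp only [map_add, TensorProduct.tmul_add, hx, hy])
    have hm : m * m = 1 := by
      have h5 : (m * m) • a₀ = a₀ := by
        calc (m * m) • a₀ = m • m • rA u (rA u a₀) := by rw [hA2, smul_smul]
          _ = m • rA u (m • rA u a₀) := by rw [map_smul]
          _ = rA' u (rA' u a₀) := by rw [hm1 (rA' u a₀), hm1 a₀]
          _ = a₀ := hA2' u a₀
      by_contra hne
      have h6 : (m * m - 1) • a₀ = 0 := by rw [sub_smul, h5, one_smul, sub_self]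
      rcases smul_eq_zero.1 h6 with h7 | h7
      · exact hne (sub_eq_zero.1 h7)
      · exact ha₀ h7
    have := sq_eq_one hm
    subst this
    exact LinearMap.ext fun a => by rw [hm1, one_smul]
  refine ⟨ψ, rA, rX, sX, fun u a a' x => by rw [hr', heq], hsX, hsX2, fun u => LinearMap.ext fun x => ?_, hψ⟩
  have h7 := main u a₀ a₀ x
  rw [heq] at h7
  have h8 : rA u a₀ ≠ 0 := fun h => ha₀ (by rw [← hA2 u a₀, h, map_zero])
  exact tmul_right_inj h8 (tmul_right_inj h8 h7)

/-- **the normal form with a swap** -/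
theorem norm_form (φ : A ⊗[K] (B ⊗[K] X) ≃ₗ[K] V) {U : Type*} [Group U] (r : U →* Module.End K V)
    (h2 : ∀ u : U, u * u = 1) (U₁ : Subgroup U) (s : U)
    (hp : ∀ u ∈ U₁, ∃ (α : A →ₗ[K] A) (β : B →ₗ[K] B) (γ : X →ₗ[K] X),
      ∀ a b x, r u (φ (a ⊗ₜ (b ⊗ₜ x))) = φ (α a ⊗ₜ (β b ⊗ₜ γ x)))
    (α : A ≃ₗ[K] B) (β : B →ₗ[K] A) (γ : X →ₗ[K] X)
    (hsw : ∀ a b x, r s (φ (a ⊗ₜ (b ⊗ₜ x))) = φ (β b ⊗ₜ (α a ⊗ₜ γ x))) :
    ∃ (ψ : A ⊗[K] (A ⊗[K] X) ≃ₗ[K] V) (rA : U₁ →* Module.End K A) (rX : U₁ →* Module.End K X)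
      (sX : Module.End K X),
      (∀ (u : U₁) a a' x, r u (ψ (a ⊗ₜ (a' ⊗ₜ x))) = ψ (rA u a ⊗ₜ (rA u a' ⊗ₜ rX u x))) ∧
      (∀ a a' x, r s (ψ (a ⊗ₜ (a' ⊗ₜ x))) = ψ (a' ⊗ₜ (a ⊗ₜ sX x))) ∧ sX * sX = 1 ∧
      ∀ u, sX * rX u = rX u * sX := by
  obtain ⟨ψ, rA, rX, sX, h1, h3, h4, h5, -⟩ := norm_form' φ r h2 U₁ s hp α β γ hsw
  exact ⟨ψ, rA, rX, sX, h1, h3, h4, h5⟩

end norm

end Cfsg.Agent.Omega.NO1.Comp.Swap

end
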