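import Cfsg.Agent.Omega.EH3.Clif.Frame
import Cfsg.Agent.Mrg.Omega.EH3.Clif.Comp
import Cfsg.Agent.Mrg.Omega.W5.NearTI
import Cfsg.Agent.Omega.EH3.Cons
import Cfsg.Agent.Omega.EH3.TForm

section


/-!
# Clifford step of EH3: kernels on simple submodules (helper291)
-/

set_option autoImplicit false

namespace Cfsg.Agent.Omega.EH3.Clif

open Module Subgroup

variable {H V : Type*} [Group H] [AddCommGroup V] [Module (ZMod 2) V]
  {ρ : H →* (V ≃ₗ[ZMod 2] V)} {b : LinearMap.BilinForm (ZMod 2) V} {q : V → ZMod 2}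
  {a : V} {D : Submodule (ZMod 2) V} {X : Subgroup H} {w : ℕ}

/-- `[n, x]` written as in the proof -/
abbrev cm (n x : H) : H := n * (x * n⁻¹ * x⁻¹)

theorem cm_mem {M : Subgroup H} {n x : H} (hn : n ∈ M) (hx : ∀ m ∈ M, x * m * x⁻¹ ∈ M) : cm n x ∈ M :=
  M.mul_mem hn (hx _ (M.inv_mem hn))

theorem conj_cm {g n x : H} (h : g * x = x * g) : g * cm n x * g⁻¹ = cm (g * n * g⁻¹) x := by
  have h1 : g * x * g⁻¹ = x := by rw [h, mul_inv_cancel_right]
  have h2 : g * x⁻¹ * g⁻¹ = x⁻¹ := by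
    have : g * x⁻¹ * g⁻¹ = (g * x * g⁻¹)⁻¹ := by group
    rw [this, h1]
  calc g * (n * (x * n⁻¹ * x⁻¹)) * g⁻¹ = (g * n * g⁻¹) * ((g * x * g⁻¹) * (g * n * g⁻¹)⁻¹ * (g * x⁻¹ * g⁻¹)) := by group
    _ = _ := by rw [h1, h2]

theorem comm_of_cm {n x : H} (h : cm n x = 1) : x * n = n * x := by
  have h1 : x * n⁻¹ * x⁻¹ = n⁻¹ := by
    have : n * (x * n⁻¹ * x⁻¹) = 1 := h
    exact eq_inv_of_mul_eq_one_right this
  have h2 : x * n⁻¹ = n⁻¹ * x := by
    calc x * n⁻¹ = x * n⁻¹ * x⁻¹ * x := by group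
      _ = n⁻¹ * x := by rw [h1]
  calc x * n = n * (n⁻¹ * x) * n := by group
    _ = n * (x * n⁻¹) * n := by rw [h2]
    _ = n * x := by group

/-- **an element trivial on a simple submodule centralises on the component** -/
theorem triv_c {C : Cfg ρ b q a D X w} {N₁ N₂ N : Subgroup H} (hN : N = N₁ ⊔ N₂)
    (hcomm : ∀ x ∈ N₁, ∀ y ∈ N₂, x * y = y * x) {c U : Submodule (S ρ N) V} {B : Subgroup H} {e : V} {k : ℕ}
    (F : Frame C N c U B e k) {x : H} (hxN : ∀ m ∈ N₁, x * m * x⁻¹ ∈ N₁)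
    {M : Submodule (sub (ρ := ρ) N N₁) U} (hM : IsSimpleModule (sub (ρ := ρ) N N₁) M)
    (ht : ∀ m ∈ M, ρ x (m : V) = m) : ∀ n ∈ N₁, ∀ v ∈ c, ρ (cm n x) v = v := by
  subst hN
  have hsup := sub_sup (ρ := ρ) (N₁ := N₁) (N₂ := N₂)
  have hc : ∀ s ∈ sub (ρ := ρ) (N₁ ⊔ N₂) N₁, ∀ t ∈ sub (ρ := ρ) (N₁ ⊔ N₂) N₂, s * t = t * s :=
    fun s hs t ht => Subtype.ext (S_comm hcomm (s : AddMonoid.End V) hs (t : AddMonoid.End V) ht)
  have htop := iso_top F.simp hc hsup hM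
  intro n hn v hv
  have hn' : cm n x ∈ N₁ := cm_mem hn hxN
  have hn'' : cm n x ∈ N₁ ⊔ N₂ := mem_sup_left hn'
  let r : sub (ρ := ρ) (N₁ ⊔ N₂) N₁ := ⟨el ρ hn'', mem_sub.2 (mem_S ρ hn')⟩ - 1
  have hr : ∀ v : V, ((r : S ρ (N₁ ⊔ N₂)) • v) = ρ (cm n x) v - v := fun v => rfl
  have hinvx : ∀ m ∈ M, ρ x⁻¹ (m : V) = m := by
    intro m hm
    have h1 : ρ x⁻¹ (ρ x (m : V)) = m := C.ρ_inv_apply x _
    rwa [ht m hm] at h1
  have hkill : ∀ m ∈ M, r • m = 0 := by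
    intro m hm
    apply Subtype.ext
    show ((r : S ρ (N₁ ⊔ N₂)) • (m : V)) = 0
    rw [hr, sub_eq_zero]
    have hnm : n⁻¹ ∈ N₁ := N₁.inv_mem hn
    let s : sub (ρ := ρ) (N₁ ⊔ N₂) N₁ := ⟨el ρ (mem_sup_left hnm), mem_sub.2 (mem_S ρ hnm)⟩
    have h1 : s • m ∈ M := M.smul_mem s hm
    have h2 : ((s • m : U) : V) = ρ n⁻¹ m := rfl
    have h3 := ht _ h1
    rw [h2] at h3
    show ρ (n * (x * n⁻¹ * x⁻¹)) (m : V) = m
    rw [C.ρ_mul, C.ρ_mul, C.ρ_mul, hinvx m hm, h3, C.ρ_apply_inv]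
  have hall : ∀ u : U, r • u = 0 := fun u => kill_comp hkill u (by rw [htop]; exact Submodule.mem_top)
  have h5 := F.kill (r : S ρ (N₁ ⊔ N₂)) (fun u hu => congrArg Subtype.val (hall ⟨u, hu⟩)) v hv
  rw [hr] at h5
  exact sub_eq_zero.1 h5

theorem cm_mul {m n x : H} (h : m * cm n x = cm n x * m) (h' : cm n x * cm m x = cm m x * cm n x) :
    cm (m * n) x = cm m x * cm n x := by
  have h1 : cm (m * n) x = (m * cm n x) * (x * m⁻¹ * x⁻¹) := by
    simp only [cm, mul_inv_rev, mul_assoc, inv_mul_cancel_left]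
  rw [h1, h, ← h']
  simp only [cm, mul_assoc]

theorem comm_top {N : Subgroup H} (hp : ⁅N, N⁆ = N) : commutator N = ⊤ := by
  apply map_injective N.subtype_injective
  rw [map_subtype_commutator, hp, ← MonoidHom.range_eq_map, N.range_subtype]

theorem perf_fun {N : Type*} [Group N] (hp : commutator N = ⊤) (g : N → N) (hc : ∀ n, g n ∈ center N)
    (h1 : g 1 = 1) (hm : ∀ m n, g (m * n) = g m * g n) (n : N) : g n = 1 := by
  let f : N →* N := { toFun := g, map_one' := h1, map_mul' := hm }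
  have h2 : commutator N ≤ f.ker := by
    rw [commutator_def, commutator_le]
    intro m _ n _
    rw [MonoidHom.mem_ker, map_commutatorElement, commutatorElement_eq_one_iff_mul_comm]
    exact mem_center_iff.1 (hc n) _
  rw [hp] at h2
  exact h2 (mem_top n)

/-- `x` centralises a perfect group if `[n, x]` is central -/
theorem cent_of_central {N : Subgroup H} (hp : ⁅N, N⁆ = N) {x : H} (hx : ∀ m ∈ N, x * m * x⁻¹ ∈ N)
    (h : ∀ n ∈ N, cm n x ∈ centralizer (N : Set H)) : x ∈ centralizer (N : Set H) := by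
  rw [mem_centralizer_iff]
  intro n hn
  have key := perf_fun (comm_top hp) (fun n : N => (⟨cm (n : H) x, cm_mem n.2 hx⟩ : N))
    (by
      intro n
      rw [mem_center_iff]
      intro m
      exact Subtype.ext (mem_centralizer_iff.1 (h n n.2) m m.2))
    (Subtype.ext (by simp [cm]))
    (by
      intro m n
      exact Subtype.ext (cm_mul (mem_centralizer_iff.1 (h n n.2) m m.2)
        (mem_centralizer_iff.1 (h m m.2) (cm (n : H) x) (cm_mem n.2 hx))))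
    ⟨n, hn⟩
  exact (comm_of_cm (congrArg Subtype.val key)).symm

end Cfsg.Agent.Omega.EH3.Clif

end

section


/-!
# Clifford step of EH3: `|C_X(N₁)| ≤ 2` for an `X`-invariant perfect factor of a normal subgroup (helper291)
-/

set_option autoImplicit false

namespace Cfsg.Agent.Omega.EH3.Clif

open Module Subgroup

variable {H V : Type*} [Group H] [AddCommGroup V] [Module (ZMod 2) V]
  {ρ : H →* (V ≃ₗ[ZMod 2] V)} {b : LinearMap.BilinForm (ZMod 2) V} {q : V → ZMod 2}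
  {a : V} {D : Submodule (ZMod 2) V} {X : Subgroup H} {w : ℕ}

/-- an `X`-invariant simple `N₁`-submodule is of the type of `V` -/
theorem comp_top (C : Cfg ρ b q a D X w) {N₁ : Subgroup H} (hss : IsSemisimpleModule (S ρ N₁) V)
    (hX : ∀ x ∈ X, ∀ n ∈ N₁, x * n * x⁻¹ ∈ N₁) {U : Submodule (S ρ N₁) V}
    (hU : IsSimpleModule (S ρ N₁) U) (hUX : ∀ x ∈ X, ∀ v ∈ U, ρ x v ∈ U) :
    isotypicComponent (S ρ N₁) V U = ⊤ := by
  have := C.finite_V
  have hNor : ∀ x : X, Nor (S ρ N₁) (rep ρ X x) := nor_X hX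
  have h2 := C.add_self
  have hX2 := sq_X C
  have hfix := fix_rep C
  let c : isotypicComponents (S ρ N₁) V := ⟨isotypicComponent (S ρ N₁) V U, U, hU, rfl⟩
  have hcs : ∀ x : X, cs (rep ρ X x) (hNor x) U = U := by
    intro x
    ext v
    rw [mem_cs, symm_self hX2 (rep ρ X)]
    constructor
    · intro hv
      have h1 := hUX x x.2 _ hv
      have h3 : ρ (x : H) (rep ρ X x v) = v := β_β hX2 (rep ρ X) x v
      rwa [h3] at h1
    · exact hUX x x.2 v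
  have hall : ∀ d : isotypicComponents (S ρ N₁) V, d = c := by
    intro d
    obtain ⟨x, hx⟩ := trans h2 hX2 (rep ρ X) hNor C.a_ne hfix c d
    apply Subtype.ext
    rw [← hx]
    show cs (rep ρ X x) (hNor x) (isotypicComponent (S ρ N₁) V U) = isotypicComponent (S ρ N₁) V U
    rw [cs_comp, hcs]
  have h1 := iSup_top (R := S ρ N₁) (V := V)
  rw [eq_top_iff, ← h1]
  apply iSup_le
  intro d
  rw [hall d]

theorem card_cent_le_of (C : Cfg ρ b q a D X w) {N₁ : Subgroup H} (hss : IsSemisimpleModule (S ρ N₁) V)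
    (hX : X ≤ normalizer (N₁ : Set H)) (hperf : ⁅N₁, N₁⁆ = N₁) (hne : N₁ ≠ ⊥) :
    Nat.card ↥(X ⊓ centralizer (N₁ : Set H)) ≤ 2 := by
  classical
  have := C.finite_V
  have hX' : ∀ x ∈ X, ∀ n ∈ N₁, x * n * x⁻¹ ∈ N₁ := fun x hx n hn => (mem_normalizer_iff.1 (hX hx) n).1 hn
  apply card_cent_le_of_semisimple C hX hperf hne
  intro U haU hUN hUX hmin
  let U' : Submodule (S ρ N₁) V := toSub U.toAddSubgroup hUN
  have hU'mem : ∀ v, v ∈ U' ↔ v ∈ U := fun _ => Iff.rfl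
  have hU' : IsSimpleModule (S ρ N₁) U' := by
    rw [isSimpleModule_iff_isAtom]
    constructor
    · intro h
      have h1 : a ∈ U' := haU
      rw [h, Submodule.mem_bot] at h1
      exact C.a_ne h1
    · intro W hW
      have hWU : toZ W ≤ U := fun v hv => hW.le hv
      rcases hmin (toZ W) hWU (fun n hn v hv => inv_of_sub W hn hv) with h | h
      · rw [eq_bot_iff]
        intro v hv
        have h1 : v ∈ toZ W := hv
        rw [h, Submodule.mem_bot] at h1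
        rw [Submodule.mem_bot]; exact h1
      · exfalso
        apply hW.not_ge
        intro v hv
        have h1 : v ∈ toZ W := by rw [h]; exact hv
        exact h1
  have htop := comp_top C hss hX' hU' (fun x hx v hv => hUX x hx v hv)
  -- a submodule isomorphic to `U'` not orthogonal to `a`
  obtain ⟨m, ⟨φ⟩, v, hv, hb⟩ : ∃ m : Submodule (S ρ N₁) V, Nonempty (m ≃ₗ[S ρ N₁] U') ∧ ∃ v ∈ m, b v a ≠ 0 := by
    by_contra hcon
    push Not at hcon
    apply C.a_ne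
    apply C.nondeg
    intro v
    rw [C.b_comm]
    have hv : v ∈ isotypicComponent (S ρ N₁) V U' := by rw [htop]; exact Submodule.mem_top
    rw [isotypicComponent, sSup_eq_iSup'] at hv
    induction hv using Submodule.iSup_induction' with
    | mem i x hx => exact hcon i.1 i.2 x hx
    | zero => rw [map_zero, LinearMap.zero_apply]
    | add x y _ _ hx hy => rw [map_add, LinearMap.add_apply, hx, hy, add_zero]
  let f₀ : U →+ V :=
    { toFun := fun u => (φ.symm ⟨u, u.2⟩ : V)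
      map_zero' := by
        have : (⟨((0 : U) : V), (0 : U).2⟩ : U') = 0 := rfl
        rw [this, map_zero]; rfl
      map_add' := by
        intro u u'
        have : (⟨((u + u' : U) : V), (u + u').2⟩ : U') = ⟨u, u.2⟩ + ⟨u', u'.2⟩ := rfl
        rw [this, map_add]; rfl }
  obtain ⟨g, hg⟩ := LinearMap.exists_extend (f₀.toZModLinearMap 2)
  have hg' : ∀ u (hu : u ∈ U), g u = (φ.symm ⟨u, hu⟩ : V) := fun u hu => LinearMap.congr_fun hg ⟨u, hu⟩
  refine ⟨g, ?_, ?_⟩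
  · intro n hn u hu
    rw [hg' _ (hUN n hn u hu), hg' u hu]
    have h1 : (⟨ρ n u, hUN n hn u hu⟩ : U') = el ρ hn • ⟨u, hu⟩ := rfl
    rw [h1, map_smul]; rfl
  · refine ⟨(φ ⟨v, hv⟩ : V), (φ ⟨v, hv⟩).2, a, haU, ?_⟩
    rw [hg' _ (φ ⟨v, hv⟩).2]
    have h1 : φ.symm ⟨(φ ⟨v, hv⟩ : V), (φ ⟨v, hv⟩).2⟩ = ⟨v, hv⟩ := φ.symm_apply_apply _
    rw [h1]
    exact hb

end Cfsg.Agent.Omega.EH3.Clif

end

section


/-!
# Clifford step of EH3: the two contradictions in a frame (helper291)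

* `one` : both factors `B`-invariant;
* `two` : the factors swapped by `B`.
-/

set_option autoImplicit false

namespace Cfsg.Agent.Omega.EH3.Clif

open Module Subgroup

variable {H V : Type*} [Group H] [AddCommGroup V] [Module (ZMod 2) V]
  {ρ : H →* (V ≃ₗ[ZMod 2] V)} {b : LinearMap.BilinForm (ZMod 2) V} {q : V → ZMod 2}
  {a : V} {D : Submodule (ZMod 2) V} {X : Subgroup H} {w : ℕ}

theorem orders {C : Cfg ρ b q a D X w} {N : Subgroup H} {c U : Submodule (S ρ N) V} {B : Subgroup H}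
    {e : V} {k : ℕ} (F : Frame C N c U B e k) :
    ∃ l m, Nat.card U = 2 ^ l ∧ 1 ≤ m ∧ l * m * 2 ^ k = 2 * w := by
  have := C.finite_V
  obtain ⟨m, hm0, hm⟩ := F.card_U
  have hdvd : Nat.card U ∣ 2 ^ (2 * w) := by
    rw [← C.card_V]
    exact AddSubgroup.card_addSubgroup_dvd_card U.toAddSubgroup
  obtain ⟨l, -, hl⟩ := (Nat.dvd_prime_pow Nat.prime_two).1 hdvd
  refine ⟨l, m, hl, Nat.one_le_iff_ne_zero.2 hm0, ?_⟩
  have h1 := F.card_c
  rw [hm, hl, ← pow_mul, ← pow_mul] at h1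
  rw [mul_assoc]
  exact Nat.pow_right_injective (le_refl 2) h1

theorem card_le_of {Z : Subgroup H} [Finite Z] (hZ : Nat.card Z ≤ 2) {Y : Type*} (f : Y → H)
    (hf : Function.Injective f) (h : ∀ y, f y ∈ Z) : Nat.card Y ≤ 2 :=
  (Nat.card_le_card_of_injective (fun y => (⟨f y, h y⟩ : Z)) fun _ _ hxy =>
    hf (congrArg Subtype.val hxy)).trans hZ

/-- the action of `B` on `U` -/
theorem Frame.inv' {C : Cfg ρ b q a D X w} {N : Subgroup H} {c U : Submodule (S ρ N) V} {B : Subgroup H}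
    {e : V} {k : ℕ} (F : Frame C N c U B e k) : ∀ x : B, ∀ v ∈ U, rep ρ B x v ∈ U :=
  fun x v hv => F.Uinv x x.2 v hv

theorem Frame.fixU {C : Cfg ρ b q a D X w} {N : Subgroup H} {c U : Submodule (S ρ N) V} {B : Subgroup H}
    {e : V} {k : ℕ} (F : Frame C N c U B e k) (v : U) (hv : ∀ x, res (rep ρ B) U F.inv' x v = v) :
    v = 0 ∨ v = ⟨e, F.eU⟩ := by
  rcases F.fix v (F.Uc v.2) (fun x hx => congrArg Subtype.val (hv ⟨x, hx⟩)) with h | h
  · exact Or.inl (Subtype.ext h)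
  · exact Or.inr (Subtype.ext h)

/-- **both factors invariant** -/
theorem one {C : Cfg ρ b q a D X w} {N₁ N₂ : Subgroup H}
    (hcomm : ∀ x ∈ N₁, ∀ y ∈ N₂, x * y = y * x) {c U : Submodule (S ρ (N₁ ⊔ N₂)) V} {B : Subgroup H}
    {e : V} {k : ℕ} (F : Frame C (N₁ ⊔ N₂) c U B e k)
    (hB₁ : ∀ x ∈ B, ∀ n ∈ N₁, x * n * x⁻¹ ∈ N₁) (hB₂ : ∀ x ∈ B, ∀ n ∈ N₂, x * n * x⁻¹ ∈ N₂)
    {Z₁ Z₂ : Subgroup H} (hZ₁ : Nat.card Z₁ ≤ 2) (hZ₂ : Nat.card Z₂ ≤ 2)
    (hz₁ : ∀ x ∈ B, (∀ n ∈ N₁, ∀ v ∈ c, ρ (cm n x) v = v) → x ∈ Z₁)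
    (hz₂ : ∀ x ∈ B, (∀ n ∈ N₂, ∀ v ∈ c, ρ (cm n x) v = v) → x ∈ Z₂) : False := by
  have := C.finite_V
  have := C.finite_H
  have hcomm' : ∀ x ∈ N₂, ∀ y ∈ N₁, x * y = y * x := fun x hx y hy => (hcomm y hy x hx).symm
  have hsup := sub_sup (ρ := ρ) (N₁ := N₁) (N₂ := N₂)
  have hc : ∀ s ∈ sub (ρ := ρ) (N₁ ⊔ N₂) N₁, ∀ t ∈ sub (ρ := ρ) (N₁ ⊔ N₂) N₂, s * t = t * s :=
    fun s hs t ht => Subtype.ext (S_comm hcomm (s : AddMonoid.End V) hs (t : AddMonoid.End V) ht)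
  obtain ⟨l, m, hl, hm, hlm⟩ := orders F
  have hinvB : ∀ {M : Subgroup H}, (∀ x ∈ B, ∀ n ∈ M, x * n * x⁻¹ ∈ M) → ∀ x : B, ∀ n ∈ M, (x : H)⁻¹ * n * x ∈ M := by
    intro M hM x n hn
    have := hM _ (B.inv_mem x.2) n hn
    rwa [inv_inv] at this
  have key := ineq_one (R := S ρ (N₁ ⊔ N₂)) (R₁ := sub (ρ := ρ) (N₁ ⊔ N₂) N₁)
    (R₂ := sub (ρ := ρ) (N₁ ⊔ N₂) N₂) (U := U) (fun u => Subtype.ext (C.add_self _)) F.simp hc hsup
    (B := B) (fun x => Subtype.ext (C.X_sq x (F.BX x.2))) (res (rep ρ B) U F.inv')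
    (fun x => nor_sub le_sup_left U F.inv' x (hinvB hB₁ x) (hB₁ x x.2))
    (fun x => nor_sub le_sup_right U F.inv' x (hinvB hB₂ x) (hB₂ x x.2))
    (e := ⟨e, F.eU⟩) (fun h => F.e0 (congrArg Subtype.val h)) (fun x => Subtype.ext (F.efix x x.2))
    F.fixU
    (by
      intro M hM _
      refine card_le_of hZ₁ (fun y : {x : B // ∀ m ∈ M, res (rep ρ B) U F.inv' x m = m} => ((y.1 : B) : H))
        (fun y z h => Subtype.ext (Subtype.ext h)) ?_
      rintro ⟨x, hx⟩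
      exact hz₁ x x.2 (triv_c rfl hcomm F (hB₁ x x.2) hM fun m hm => congrArg Subtype.val (hx m hm)))
    (by
      intro M hM _
      refine card_le_of hZ₂ (fun y : {x : B // ∀ m ∈ M, res (rep ρ B) U F.inv' x m = m} => ((y.1 : B) : H))
        (fun y z h => Subtype.ext (Subtype.ext h)) ?_
      rintro ⟨x, hx⟩
      exact hz₂ x x.2 (triv_c (sup_comm _ _) hcomm' F (hB₂ x x.2) hM fun m hm => congrArg Subtype.val (hx m hm)))
    F.card_B hl
  have hw := C.six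
  have hk := F.k_le
  have hl' : l ≤ l * m := Nat.le_mul_of_pos_right l hm
  interval_cases k
  · rw [pow_zero, mul_one] at hlm
    have h1 : (w - 1 - 0) * (w - 1 - 0) ≤ 2 * (2 * w) := key.trans (by omega)
    obtain ⟨v, rfl⟩ : ∃ v, w = v + 1 := ⟨w - 1, by omega⟩
    have h2 : v + 1 - 1 - 0 = v := by omega
    rw [h2] at h1
    have h5 : 5 ≤ v := by omega
    nlinarith
  · rw [pow_one] at hlm
    have h1 : (w - 1 - 1) * (w - 1 - 1) ≤ 2 * w := key.trans (by omega)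
    obtain ⟨v, rfl⟩ : ∃ v, w = v + 2 := ⟨w - 2, by omega⟩
    have h2 : v + 2 - 1 - 1 = v := by omega
    rw [h2] at h1
    have h5 : 4 ≤ v := by omega
    nlinarith

/-- **the two factors swapped** -/
theorem two {C : Cfg ρ b q a D X w} {N₁ N₂ : Subgroup H}
    (hcomm : ∀ x ∈ N₁, ∀ y ∈ N₂, x * y = y * x) {c U : Submodule (S ρ (N₁ ⊔ N₂)) V} {B : Subgroup H}
    {e : V} {k : ℕ} (F : Frame C (N₁ ⊔ N₂) c U B e k) (hN : (N₁ ⊔ N₂).Normal)
    {B' : Subgroup H} (hidx : B'.relIndex B = 2)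
    (hB₁ : ∀ x ∈ B', ∀ n ∈ N₁, x * n * x⁻¹ ∈ N₁) {b₀ : H} (hb₀ : b₀ ∈ B) (hb₀' : b₀ ∉ B')
    (hsw : ∀ n ∈ N₁, b₀ * n * b₀⁻¹ ∈ N₂) (hsw' : ∀ n ∈ N₂, b₀⁻¹ * n * b₀ ∈ N₁)
    {Z : Subgroup H} (hZ : Nat.card Z ≤ 2)
    (hz : ∀ x ∈ B, x ∈ B' → (∀ n ∈ N₁, ∀ v ∈ c, ρ (cm n x) v = v) → x ∈ Z) : False := by
  have := C.finite_V
  have := C.finite_H
  have hsup := sub_sup (ρ := ρ) (N₁ := N₁) (N₂ := N₂)
  have hc : ∀ s ∈ sub (ρ := ρ) (N₁ ⊔ N₂) N₁, ∀ t ∈ sub (ρ := ρ) (N₁ ⊔ N₂) N₂, s * t = t * s :=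
    fun s hs t ht => Subtype.ext (S_comm hcomm (s : AddMonoid.End V) hs (t : AddMonoid.End V) ht)
  obtain ⟨l, m, hl, hm, hlm⟩ := orders F
  have hinvB : ∀ x ∈ B', ∀ n ∈ N₁, x⁻¹ * n * x ∈ N₁ := by
    intro x hx n hn
    have := hB₁ _ (B'.inv_mem hx) n hn
    rwa [inv_inv] at this
  have hcardB' : Nat.card (B'.subgroupOf B) * 2 = 2 ^ (w - 1 - k) := by
    rw [← F.card_B, ← hidx]
    exact (B'.subgroupOf B).card_mul_index
  have hw := C.six
  have hk := F.k_le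
  have hcardB'' : Nat.card (B'.subgroupOf B) = 2 ^ (w - 2 - k) := by
    have h1 : w - 1 - k = (w - 2 - k) + 1 := by omega
    rw [h1, pow_succ] at hcardB'
    exact Nat.eq_of_mul_eq_mul_right (by norm_num) hcardB'
  have key := ineq_two (R := S ρ (N₁ ⊔ N₂)) (R₁ := sub (ρ := ρ) (N₁ ⊔ N₂) N₁)
    (R₂ := sub (ρ := ρ) (N₁ ⊔ N₂) N₂) (U := U) (fun u => Subtype.ext (C.add_self _)) F.simp hc hsup
    (B := B) (fun x => Subtype.ext (C.X_sq x (F.BX x.2))) (res (rep ρ B) U F.inv')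
    (fun x => res_nor (rep ρ B) U F.inv' x (nor_rep x
      (fun n hn => by
        have := hN.conj_mem n hn (x : H)⁻¹
        rwa [inv_inv] at this)
      (fun n hn => hN.conj_mem n hn x)))
    (B'.subgroupOf B) hidx
    (fun x hx => nor_sub le_sup_left U F.inv' x (hinvB x (mem_subgroupOf.1 hx)) (hB₁ x (mem_subgroupOf.1 hx)))
    (b₀ := ⟨b₀, hb₀⟩) (fun h => hb₀' (mem_subgroupOf.1 h))
    (swp_sub le_sup_left le_sup_right U F.inv' ⟨b₀, hb₀⟩ hsw hsw')
    (e := ⟨e, F.eU⟩) (fun h => F.e0 (congrArg Subtype.val h)) (fun x => Subtype.ext (F.efix x x.2))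
    F.fixU
    (by
      intro M hM
      refine card_le_of hZ (fun y : {x : B'.subgroupOf B // ∀ m ∈ M, res (rep ρ B) U F.inv' x m = m} =>
        (((y.1 : B'.subgroupOf B) : B) : H))
        (fun y z h => Subtype.ext (Subtype.ext (Subtype.ext h))) ?_
      rintro ⟨⟨x, hxB'⟩, hx⟩
      exact hz x x.2 (mem_subgroupOf.1 hxB') (triv_c rfl hcomm F (hB₁ x (mem_subgroupOf.1 hxB')) hM
        fun m hm => congrArg Subtype.val (hx m hm)))
    hcardB'' hl
  obtain ⟨x, j, d, hkx, hj, hd, hxj⟩ := key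
  have ht : x * x * (j * m) * 2 ^ k = d * (2 * w) := by
    calc x * x * (j * m) * 2 ^ k = (x * x * j) * m * 2 ^ k := by ring
      _ = d * (l * m * 2 ^ k) := by rw [hxj]; ring
      _ = d * (2 * w) := by rw [hlm]
  have hjm : 1 ≤ j * m := Nat.one_le_iff_ne_zero.2 (Nat.mul_ne_zero (by omega) (by omega))
  generalize hjm' : j * m = t at ht hjm
  have hxt : x * x ≤ x * x * t := Nat.le_mul_of_pos_right _ hjm
  have hd' : d * (2 * w) ≤ 4 * w := by nlinarith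
  interval_cases k
  · rw [pow_zero, mul_one] at ht
    obtain ⟨v, rfl⟩ : ∃ v, w = v + 2 := ⟨w - 2, by omega⟩
    have h1 : v ≤ x := by omega
    have h2 : v * v ≤ x * x := Nat.mul_le_mul h1 h1
    have h3 : v < 6 := by
      by_contra hcon
      push Not at hcon
      nlinarith
    have h4 : 4 ≤ v := by omega
    have h6 : x < 6 := by
      by_contra hcon
      push Not at hcon
      nlinarith
    interval_cases v <;> interval_cases x <;> interval_cases d <;> omega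
  · rw [pow_one] at ht
    obtain ⟨v, rfl⟩ : ∃ v, w = v + 3 := ⟨w - 3, by omega⟩
    have h1 : v ≤ x := by omega
    have h2 : v * v ≤ x * x := Nat.mul_le_mul h1 h1
    have h3 : v < 4 := by
      by_contra hcon
      push Not at hcon
      nlinarith
    have h4 : 3 ≤ v := by omega
    have h6 : x < 4 := by
      by_contra hcon
      push Not at hcon
      nlinarith
    interval_cases v <;> interval_cases x <;> interval_cases d <;> omega

end Cfsg.Agent.Omega.EH3.Clif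

end

section


/-!
# Clifford step of EH3: the component is unique (helper291)

`component_unique` : a group `H` in the configuration `Cfg`, all of whose components have even order, has at most one
component.
-/

set_option autoImplicit false

namespace Cfsg.Agent.Omega.EH3.Clif

open Module Subgroup

variable {H V : Type*} [Group H] [AddCommGroup V] [Module (ZMod 2) V]
  {ρ : H →* (V ≃ₗ[ZMod 2] V)} {b : LinearMap.BilinForm (ZMod 2) V} {q : V → ZMod 2}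
  {a : V} {D : Submodule (ZMod 2) V} {X : Subgroup H} {w : ℕ}

theorem semisimple_factor (C : Cfg ρ b q a D X w) {N₁ N₂ : Subgroup H}
    (hcomm : ∀ x ∈ N₁, ∀ y ∈ N₂, x * y = y * x) (hN : (N₁ ⊔ N₂).Normal) :
    IsSemisimpleModule (S ρ N₁) V := by
  have := C.finite_V
  have : Nontrivial V := ⟨a, 0, C.a_ne⟩
  refine semisimple_down (N := N₁ ⊔ N₂) le_sup_left ?_ (semisimple_normal C.irr hN)
  have h1 : N₁ ⊔ N₂ ≤ normalizer (N₁ : Set H) := by
    apply sup_le le_normalizer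
    intro y hy
    rw [mem_normalizer_iff]
    intro x
    have key : ∀ x ∈ N₁, y * x * y⁻¹ = x := by
      intro x hx
      rw [← hcomm x hx y hy, mul_inv_cancel_right]
    constructor
    · intro hx
      rw [key x hx]; exact hx
    · intro hx
      have h2 := key _ hx
      have h3 : y * x * y⁻¹ = x := by
        have h4 : y * (y * x * y⁻¹) * y⁻¹ = y * x * y⁻¹ := h2
        have h5 : y * x * y⁻¹ = x := mul_left_cancel (mul_right_cancel h4)
        exact h5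
      rwa [h3] at hx
  intro n hn m hm
  exact (mem_normalizer_iff.1 (h1 hn) m).1 hm

/-- an element trivial on `c` for all of `N₁`, `N₁` being `X`-invariant -/
theorem cent_of_triv {C : Cfg ρ b q a D X w} {N : Subgroup H} {c U : Submodule (S ρ N) V} {B : Subgroup H}
    {e : V} {k : ℕ} (F : Frame C N c U B e k) {Q : H → Prop} {x : H} (hx : x ∈ X)
    (hQ : ∀ y ∈ X, ∀ n, Q n → Q (y⁻¹ * n * y)) (h : ∀ n, Q n → ∀ v ∈ c, ρ (cm n x) v = v) :
    ∀ n, Q n → x * n = n * x := by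
  intro n hn
  apply comm_of_cm
  apply C.ext
  intro v
  rw [C.ρ_one]
  refine F.ind (fun v => ρ (cm n x) v = v) (map_zero _) ?_ ?_ v
  · intro u v hu hv
    rw [map_add, hu, hv]
  · intro y hy v hv
    have h1 : y⁻¹ * cm n x * (y⁻¹)⁻¹ = cm (y⁻¹ * n * (y⁻¹)⁻¹) x :=
      conj_cm (C.X_comm (X.inv_mem hy) hx)
    rw [inv_inv] at h1
    have h2 : cm n x * y = y * cm (y⁻¹ * n * y) x := by
      rw [← h1]; group
    rw [← C.ρ_mul, h2, C.ρ_mul, h _ (hQ y hy n hn) v hv]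

theorem caseA (C : Cfg ρ b q a D X w) {N₁ N₂ : Subgroup H} (hs : Comp.Split N₁ N₂)
    (hX₁ : X ≤ normalizer (N₁ : Set H)) (hX₂ : X ≤ normalizer (N₂ : Set H)) : False := by
  have := C.finite_H
  obtain ⟨c, U, B, e, k, F⟩ := exists_frame C hs.norm
  have hX₁' : ∀ x ∈ X, ∀ n ∈ N₁, x * n * x⁻¹ ∈ N₁ := fun x hx n hn => (mem_normalizer_iff.1 (hX₁ hx) n).1 hn
  have hX₂' : ∀ x ∈ X, ∀ n ∈ N₂, x * n * x⁻¹ ∈ N₂ := fun x hx n hn => (mem_normalizer_iff.1 (hX₂ hx) n).1 hn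
  have hi : ∀ {M : Subgroup H}, (∀ x ∈ X, ∀ n ∈ M, x * n * x⁻¹ ∈ M) → ∀ x ∈ X, ∀ n ∈ M, x⁻¹ * n * x ∈ M := by
    intro M hM x hx n hn
    have := hM _ (X.inv_mem hx) n hn
    rwa [inv_inv] at this
  have hcomm' : ∀ x ∈ N₂, ∀ y ∈ N₁, x * y = y * x := fun x hx y hy => (hs.comm y hy x hx).symm
  have hnorm' : (N₂ ⊔ N₁).Normal := by rw [sup_comm]; exact hs.norm
  refine one (C := C) hs.comm F (fun x hx => hX₁' x (F.BX hx)) (fun x hx => hX₂' x (F.BX hx))
    (Z₁ := X ⊓ centralizer (N₁ : Set H)) (Z₂ := X ⊓ centralizer (N₂ : Set H))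
    (card_cent_le_of C (semisimple_factor C hs.comm hs.norm) hX₁ hs.perf₁ hs.ne₁)
    (card_cent_le_of C (semisimple_factor C hcomm' hnorm') hX₂ hs.perf₂ hs.ne₂) ?_ ?_
  · intro x hx h
    refine ⟨F.BX hx, mem_centralizer_iff.2 ?_⟩
    intro n hn
    exact (cent_of_triv F (Q := fun n => n ∈ N₁) (F.BX hx) (fun y hy n hn => hi hX₁' y hy n hn) h n hn).symm
  · intro x hx h
    refine ⟨F.BX hx, mem_centralizer_iff.2 ?_⟩
    intro n hn
    exact (cent_of_triv F (Q := fun n => n ∈ N₂) (F.BX hx) (fun y hy n hn => hi hX₂' y hy n hn) h n hn).symm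

theorem perf_sup {N₁ N₂ : Subgroup H} (h₁ : ⁅N₁, N₁⁆ = N₁) (h₂ : ⁅N₂, N₂⁆ = N₂) :
    ⁅N₁ ⊔ N₂, N₁ ⊔ N₂⁆ = N₁ ⊔ N₂ := by
  apply le_antisymm (commutator_le_self _)
  apply sup_le
  · calc N₁ = ⁅N₁, N₁⁆ := h₁.symm
      _ ≤ _ := commutator_mono le_sup_left le_sup_left
  · calc N₂ = ⁅N₂, N₂⁆ := h₂.symm
      _ ≤ _ := commutator_mono le_sup_right le_sup_right

theorem mem_cent_sup {N₁ N₂ : Subgroup H} {x : H} (h₁ : ∀ n ∈ N₁, x * n = n * x)
    (h₂ : ∀ n ∈ N₂, x * n = n * x) : x ∈ centralizer ((N₁ ⊔ N₂ : Subgroup H) : Set H) := by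
  have key : N₁ ⊔ N₂ ≤ centralizer {x} := by
    apply sup_le
    · intro n hn
      rw [mem_centralizer_iff]
      rintro _ rfl
      exact h₁ n hn
    · intro n hn
      rw [mem_centralizer_iff]
      rintro _ rfl
      exact h₂ n hn
  rw [mem_centralizer_iff]
  intro n hn
  exact ((mem_centralizer_iff.1 (key hn)) x rfl).symm

theorem caseB (C : Cfg ρ b q a D X w) {N₁ N₂ A' : Subgroup H} (hs : Comp.Split N₁ N₂) (hA' : A' ≤ X)
    (hidx : A'.relIndex X = 2) (hAN : A' ≤ normalizer (N₁ : Set H))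
    (hsw : ∀ x ∈ X, x ∉ A' → N₁.map (MulAut.conj x).toMonoidHom = N₂)
    (hJ : ∀ J ≤ N₁, N₁ ≤ normalizer (J : Set H) → A' ≤ normalizer (J : Set H) →
      J = N₁ ∨ J ≤ centralizer (N₁ : Set H)) (hev : Even (Nat.card N₁)) : False := by
  have := C.finite_H
  obtain ⟨α, hα, hαA, hcs⟩ := relIndex_eq_two_iff_exists_notMem_and.1 hidx
  obtain ⟨c, U, B, e, k, F⟩ := exists_frame C hs.norm
  have hA₁ : ∀ x ∈ A', ∀ n ∈ N₁, x * n * x⁻¹ ∈ N₁ := fun x hx n hn => (mem_normalizer_iff.1 (hAN hx) n).1 hn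
  have hsw₁ : ∀ x ∈ X, x ∉ A' → ∀ n ∈ N₁, x * n * x⁻¹ ∈ N₂ := by
    intro x hx hxA n hn
    rw [← hsw x hx hxA]
    exact ⟨n, hn, rfl⟩
  have hsw₂ : ∀ x ∈ X, x ∉ A' → ∀ n ∈ N₂, x⁻¹ * n * x ∈ N₁ := by
    intro x hx hxA n hn
    rw [← hsw x hx hxA] at hn
    obtain ⟨m, hm, rfl⟩ := hn
    have : x⁻¹ * (x * m * x⁻¹) * x = m := by group
    show x⁻¹ * (x * m * x⁻¹) * x ∈ N₁
    rw [this]; exact hm
  have hsw₂' : ∀ x ∈ X, x ∉ A' → ∀ n ∈ N₂, x * n * x⁻¹ ∈ N₁ := by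
    intro x hx hxA n hn
    have := hsw₂ x hx hxA n hn
    rw [C.X_inv hx] at this
    rw [C.X_inv hx]; exact this
  -- products of two elements outside `A'`
  have hprod : ∀ x ∈ X, x ∉ A' → ∀ y ∈ X, y ∉ A' → x * y ∈ A' := by
    intro x hx hxA y hy hyA
    have h1 : ∀ z ∈ X, z ∉ A' → α * z ∈ A' := by
      intro z hz hzA
      rcases hcs z hz with h | h
      · rwa [C.X_comm hz hα] at h
      · exact absurd h hzA
    have h2 := A'.mul_mem (h1 x hx hxA) (h1 y hy hyA)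
    have h3 : α * x * (α * y) = x * y := by
      calc α * x * (α * y) = (x * α) * (α * y) := by rw [C.X_comm hα hx]
        _ = x * (α * α) * y := by group
        _ = x * y := by rw [C.X_sq α hα, mul_one]
    rwa [h3] at h2
  have hA₂ : ∀ x ∈ A', ∀ n ∈ N₂, x * n * x⁻¹ ∈ N₂ := by
    intro x hx n hn
    have h1 : α * x ∉ A' := by
      intro h
      apply hαA
      have := A'.mul_mem h (A'.inv_mem hx)
      rwa [mul_inv_cancel_right] at this
    have h2 := hsw₁ (α * x) (X.mul_mem hα (hA' hx)) h1 (α * n * α⁻¹) (hsw₂' α hα hαA n hn)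
    have h3 : α * x * (α * n * α⁻¹) * (α * x)⁻¹ = x * n * x⁻¹ := by
      have h4 : α * x = x * α := C.X_comm hα (hA' hx)
      calc α * x * (α * n * α⁻¹) * (α * x)⁻¹ = (x * α) * (α * n * α⁻¹) * (x * α)⁻¹ := by rw [h4]
        _ = x * (α * α) * n * (α * α)⁻¹ * x⁻¹ := by group
        _ = x * n * x⁻¹ := by rw [C.X_sq α hα]; group
    rwa [h3] at h2
  have hcent := C.card_cent_le_of_perfect hs.norm (perf_sup hs.perf₁ hs.perf₂) (by
    intro h
    apply hs.ne₁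
    rw [eq_bot_iff, ← h]
    exact le_sup_left)
  by_cases hBA : ∃ b₀ ∈ B, b₀ ∉ A'
  · -- the factors are swapped in `B`
    obtain ⟨b₀, hb₀, hb₀A⟩ := hBA
    have hb₀X := F.BX hb₀
    have hidx' : A'.relIndex B = 2 := by
      rw [relIndex_eq_two_iff_exists_notMem_and]
      refine ⟨b₀, hb₀, hb₀A, ?_⟩
      intro x hx
      by_cases hxA : x ∈ A'
      · exact Or.inr hxA
      · exact Or.inl (hprod x (F.BX hx) hxA b₀ hb₀X hb₀A)
    refine two (C := C) hs.comm F hs.norm hidx' hA₁ hb₀ hb₀A (hsw₁ b₀ hb₀X hb₀A) (hsw₂ b₀ hb₀X hb₀A)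
      (Z := X ⊓ centralizer ((N₁ ⊔ N₂ : Subgroup H) : Set H)) hcent ?_
    intro x hxB hxA h
    have hxX := F.BX hxB
    -- also for `N₂`
    have h' : ∀ n ∈ N₂, ∀ v ∈ c, ρ (cm n x) v = v := by
      intro n hn v hv
      have h1 := hsw₂ b₀ hb₀X hb₀A n hn
      have h2 : b₀⁻¹ * cm n x * (b₀⁻¹)⁻¹ = cm (b₀⁻¹ * n * (b₀⁻¹)⁻¹) x :=
        conj_cm (C.X_comm (X.inv_mem hb₀X) hxX)
      rw [inv_inv] at h2
      have h3 : cm n x = b₀ * cm (b₀⁻¹ * n * b₀) x * b₀⁻¹ := by rw [← h2]; group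
      have h4 : ρ b₀⁻¹ v ∈ c := (F.memB _ (X.inv_mem hb₀X)).1 (B.inv_mem hb₀) v hv
      rw [h3, C.ρ_mul, C.ρ_mul, h _ h1 _ h4, C.ρ_apply_inv]
    have hall := cent_of_triv F (Q := fun n => n ∈ N₁ ∨ n ∈ N₂) hxX (by
      rintro y hy n (hn | hn)
      · by_cases hyA : y ∈ A'
        · left
          have := hA₁ y⁻¹ (A'.inv_mem hyA) n hn
          rwa [inv_inv] at this
        · right
          have := hsw₁ y hy hyA n hn
          rw [C.X_inv hy] at this ⊢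
          exact this
      · by_cases hyA : y ∈ A'
        · right
          have := hA₂ y⁻¹ (A'.inv_mem hyA) n hn
          rwa [inv_inv] at this
        · left
          exact hsw₂ y hy hyA n hn) (by
      rintro n (hn | hn) v hv
      · exact h n hn v hv
      · exact h' n hn v hv)
    exact ⟨hxX, mem_cent_sup (fun n hn => hall n (Or.inl hn)) (fun n hn => hall n (Or.inr hn))⟩
  · -- `B = A'`
    push Not at hBA
    have hcardA : Nat.card A' * 2 = 2 ^ (w - 1) := by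
      rw [← C.card_X, ← hidx]
      have h1 : Nat.card (A'.subgroupOf X) = Nat.card A' := Nat.card_congr (subgroupOfEquivOfLe hA').toEquiv
      rw [← h1]
      exact (A'.subgroupOf X).card_mul_index
    have hw := C.six
    have hBc := F.card_B
    have hk1 : k = 1 := by
      have h1 := F.k_le
      have h2 : Nat.card B ≤ Nat.card A' :=
        Nat.card_le_card_of_injective (Subgroup.inclusion hBA) (Subgroup.inclusion_injective hBA)
      interval_cases k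
      · exfalso
        rw [Nat.sub_zero] at hBc
        rw [hBc] at h2
        have h3 : 0 < Nat.card A' := Nat.card_pos
        omega
      · rfl
    have hBeq : B = A' := by
      apply eq_of_le_of_card_ge hBA
      rw [hBc, hk1]
      have h1 : w - 1 = (w - 1 - 1) + 1 := by omega
      rw [h1, pow_succ] at hcardA
      exact (Nat.eq_of_mul_eq_mul_right (by norm_num) hcardA).le
    have hαB : α ∉ B := by rw [hBeq]; exact hαA
    have hcc : ∀ x ∈ A', ∀ v ∈ c, ρ x v ∈ c := fun x hx => (F.memB x (hA' hx)).1 (by rw [hBeq]; exact hx)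
    have hcN : ∀ n ∈ N₁ ⊔ N₂, ∀ v ∈ c, ρ n v ∈ c := fun n hn v hv => inv_of_sub c hn hv
    let V₁ : Submodule (ZMod 2) V := toZ c
    let V₂ : Submodule (ZMod 2) V := (toZ c).map (ρ α : V →ₗ[ZMod 2] V)
    have hmem₂ : ∀ v, v ∈ V₂ ↔ ∃ u ∈ c, ρ α u = v := fun v => Iff.rfl
    have hcompl : IsCompl V₁ V₂ := by
      constructor
      · rw [Submodule.disjoint_def]
        rintro v hv hv'
        obtain ⟨u, hu, rfl⟩ := (hmem₂ _).1 hv'
        rw [F.dis hk1 α hα hαB u hu hv, map_zero]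
      · rw [codisjoint_iff, eq_top_iff]
        intro v _
        obtain ⟨v₁, hv₁, v₂, hv₂, rfl⟩ := F.dec hk1 α hα hαB v
        exact Submodule.add_mem_sup (S := V₁) (T := V₂) hv₁ ⟨v₂, hv₂, rfl⟩
    have hAV₁ : ∀ x ∈ A', ∀ v ∈ V₁, ρ x v ∈ V₁ := hcc
    have hAV₂ : ∀ x ∈ A', ∀ v ∈ V₂, ρ x v ∈ V₂ := by
      intro x hx v hv
      obtain ⟨u, hu, rfl⟩ := (hmem₂ _).1 hv
      refine (hmem₂ _).2 ⟨ρ x u, hcc x hx u hu, ?_⟩
      rw [← C.ρ_mul, ← C.ρ_mul, C.X_comm hα (hA' hx)]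
    have hXV₁ : ∀ x ∈ X, x ∉ A' → ∀ v ∈ V₁, ρ x v ∈ V₂ := by
      intro x hx hxA v hv
      refine (hmem₂ _).2 ⟨ρ (α * x) v, hcc _ (hprod α hα hαA x hx hxA) v hv, ?_⟩
      rw [← C.ρ_mul, ← mul_assoc, C.X_sq α hα, one_mul]
    have hXV₂ : ∀ x ∈ X, x ∉ A' → ∀ v ∈ V₂, ρ x v ∈ V₁ := by
      intro x hx hxA v hv
      obtain ⟨u, hu, rfl⟩ := (hmem₂ _).1 hv
      rw [← C.ρ_mul]
      exact hcc _ (hprod x hx hxA α hα hαA) u hu
    have hNV₁ : ∀ n ∈ N₁, ∀ v ∈ V₁, ρ n v ∈ V₁ := fun n hn => hcN n (mem_sup_left hn)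
    have hNV₂ : ∀ n ∈ N₁, ∀ v ∈ V₂, ρ n v ∈ V₂ := by
      intro n hn v hv
      obtain ⟨u, hu, rfl⟩ := (hmem₂ _).1 hv
      have h1 : α⁻¹ * n * α ∈ N₂ := by
        have := hsw₁ α hα hαA n hn
        rw [C.X_inv hα] at this ⊢
        exact this
      refine (hmem₂ _).2 ⟨ρ (α⁻¹ * n * α) u, hcN _ (mem_sup_right h1) u hu, ?_⟩
      rw [← C.ρ_mul, ← C.ρ_mul]
      congr 2
      group
    by_cases ht₁ : ∀ n ∈ N₁, ∀ v ∈ V₁, ρ n v = v
    · exact gamma_false C V₂ V₁ hcompl.symm A' N₁ N₂ hA' hidx hAV₂ hXV₂ hs.comm hAN hsw hNV₂ ht₁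
        hs.perf₁ hs.ne₁ hev
    by_cases ht₂ : ∀ n ∈ N₁, ∀ v ∈ V₂, ρ n v = v
    · exact gamma_false C V₁ V₂ hcompl A' N₁ N₂ hA' hidx hAV₁ hXV₁ hs.comm hAN hsw hNV₁ ht₂
        hs.perf₁ hs.ne₁ hev
    -- the kernels are central
    have hker : ∀ T : Submodule (ZMod 2) V, (∀ n ∈ N₁, ∀ v ∈ T, ρ n v ∈ T) → (∀ x ∈ A', ∀ v ∈ T, ρ x v ∈ T) →
        (¬ ∀ n ∈ N₁, ∀ v ∈ T, ρ n v = v) → ∀ x ∈ A', (∀ n ∈ N₁, ∀ v ∈ T, ρ (cm n x) v = v) →
        x ∈ centralizer (N₁ : Set H) := by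
      intro T hTN hTA hT x hx hxT
      let J : Subgroup H :=
        { carrier := {n | n ∈ N₁ ∧ ∀ v ∈ T, ρ n v = v}
          one_mem' := ⟨N₁.one_mem, fun v _ => C.ρ_one v⟩
          mul_mem' := by
            rintro m n ⟨hm, hm'⟩ ⟨hn, hn'⟩
            refine ⟨N₁.mul_mem hm hn, fun v hv => ?_⟩
            rw [C.ρ_mul, hn' v hv, hm' v hv]
          inv_mem' := by
            rintro m ⟨hm, hm'⟩
            exact ⟨N₁.inv_mem hm, fun v hv => C.fix_inv (hm' v hv)⟩ }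
      have hJN : ∀ g : H, (∀ v ∈ T, ρ g v ∈ T) → (∀ v ∈ T, ρ g⁻¹ v ∈ T) → (∀ n ∈ N₁, g * n * g⁻¹ ∈ N₁) →
          (∀ n ∈ N₁, g⁻¹ * n * g ∈ N₁) → g ∈ normalizer (J : Set H) := by
        intro g hg hg' hgN hgN'
        rw [mem_normalizer_iff]
        intro n
        constructor
        · rintro ⟨hn, hn'⟩
          refine ⟨hgN n hn, fun v hv => ?_⟩
          rw [C.ρ_mul, C.ρ_mul, hn' _ (hg' v hv), C.ρ_apply_inv]
        · rintro ⟨hn, hn'⟩
          have h1 : g⁻¹ * (g * n * g⁻¹) * g = n := by group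
          have h2 := hgN' _ hn
          rw [h1] at h2
          refine ⟨h2, fun v hv => ?_⟩
          have h3 := hn' (ρ g v) (hg v hv)
          rw [C.ρ_mul, C.ρ_mul, C.ρ_inv_apply] at h3
          exact C.ρ_inj g h3
      rcases hJ J (fun n hn => hn.1) (fun g hg => hJN g (hTN g hg) (hTN g⁻¹ (N₁.inv_mem hg))
          (fun n hn => N₁.mul_mem (N₁.mul_mem hg hn) (N₁.inv_mem hg))
          (fun n hn => N₁.mul_mem (N₁.mul_mem (N₁.inv_mem hg) hn) hg))
        (fun g hg => hJN g (hTA g hg) (hTA g⁻¹ (A'.inv_mem hg)) (hA₁ g hg) (fun n hn => by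
          have := hA₁ g⁻¹ (A'.inv_mem hg) n hn
          rwa [inv_inv] at this)) with h | h
      · exfalso
        apply hT
        intro n hn v hv
        have h1 : n ∈ J := by rw [h]; exact hn
        exact h1.2 v hv
      · apply cent_of_central hs.perf₁ (hA₁ x hx)
        intro n hn
        exact h ⟨cm_mem hn (hA₁ x hx), hxT n hn⟩
    have hcen : ∀ x ∈ A', x ∈ centralizer (N₁ : Set H) →
        x ∈ X ⊓ centralizer ((N₁ ⊔ N₂ : Subgroup H) : Set H) := by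
      intro x hx hxc
      have h1 : ∀ n ∈ N₁, x * n = n * x := fun n hn => (mem_centralizer_iff.1 hxc n hn).symm
      refine ⟨hA' hx, mem_cent_sup h1 ?_⟩
      intro n hn
      have h2 := h1 _ (hsw₂ α hα hαA n hn)
      have h3 : α * x = x * α := C.X_comm hα (hA' hx)
      have h3' : α * x * α⁻¹ = x := by rw [h3, mul_inv_cancel_right]
      calc x * n = (α * x * α⁻¹) * n := by rw [h3']
        _ = α * (x * (α⁻¹ * n * α)) * α⁻¹ := by group
        _ = α * ((α⁻¹ * n * α) * x) * α⁻¹ := by rw [h2]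
        _ = n * (α * x * α⁻¹) := by group
        _ = n * x := by rw [h3']
    refine one (C := C) hs.comm F (fun x hx => hA₁ x (hBA x hx)) (fun x hx => hA₂ x (hBA x hx))
      (Z₁ := X ⊓ centralizer ((N₁ ⊔ N₂ : Subgroup H) : Set H))
      (Z₂ := X ⊓ centralizer ((N₁ ⊔ N₂ : Subgroup H) : Set H)) hcent hcent ?_ ?_
    · intro x hx h
      exact hcen x (hBA x hx) (hker V₁ hNV₁ hAV₁ ht₁ x (hBA x hx) h)
    · intro x hx h
      refine hcen x (hBA x hx) (hker V₂ hNV₂ hAV₂ ht₂ x (hBA x hx) ?_)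
      intro n hn v hv
      obtain ⟨u, hu, rfl⟩ := (hmem₂ _).1 hv
      have h1 : α⁻¹ * n * α ∈ N₂ := by
        have := hsw₁ α hα hαA n hn
        rw [C.X_inv hα] at this ⊢
        exact this
      have h2 : α⁻¹ * cm n x * (α⁻¹)⁻¹ = cm (α⁻¹ * n * (α⁻¹)⁻¹) x :=
        conj_cm (C.X_comm (X.inv_mem hα) (F.BX hx))
      rw [inv_inv] at h2
      have h3 : cm n x * α = α * cm (α⁻¹ * n * α) x := by rw [← h2]; group
      rw [← C.ρ_mul, h3, C.ρ_mul, h _ h1 u hu]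

/-- **The component is unique.** -/
theorem component_unique (C : Cfg ρ b q a D X w)
    (hev : ∀ K : Subgroup H, Cfsg.IsComponent K → Even (Nat.card K)) {K K' : Subgroup H}
    (hK : Cfsg.IsComponent K) (hK' : Cfsg.IsComponent K') : K = K' := by
  have := C.finite_H
  by_contra hne
  rcases Comp.two_components X (fun x hx => C.X_sq x hx) hK hK' hne with
    ⟨N₁, N₂, hs, hX₁, hX₂, -⟩ | ⟨N₁, N₂, A', hs, hA', hidx, hAN, hsw, hJ, hKN⟩
  · exact caseA C hs hX₁ hX₂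
  · refine caseB C hs hA' hidx hAN hsw hJ ?_
    exact (hev K hK).trans_dvd (Subgroup.card_dvd_of_le hKN)

end Cfsg.Agent.Omega.EH3.Clif

end
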